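import Mathlib
import Cfsg.Agent.Lib.Helper14.Quad
import Cfsg.Agent.Lib.Helper14.Isom

/-!
# CHO (S1082 / S1083): the orthogonal-side reduction over an arbitrary field

Eichler transformations `E_{u,a} x = x + B(a,x) u - B(u,x) a - Q(a) B(u,x) u` (`u` singular,
`a ⊥ u`), hyperbolic tori, and the reduction of an isometry to one fixing a hyperbolic pair.
Everything is valid over every field (all characteristics, infinite fields allowed).
-/

set_option autoImplicit false

namespace Cfsg.Agent.Lib.Helper43.CHO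

open Matrix

section abstract

variable {F V : Type*} [Field F] [AddCommGroup V] [Module F V] (Q : QuadraticForm F V)

/-- the Eichler transformation `E_{u,a}` as a function. -/
def eF (u a x : V) : V :=
  x + QuadraticMap.polar (⇑Q) a x • u - QuadraticMap.polar (⇑Q) u x • a
    - (Q a * QuadraticMap.polar (⇑Q) u x) • u

/-- the hyperbolic torus element `e ↦ c e`, `f ↦ c⁻¹ f`, identity on `⟨e,f⟩^⊥`. -/
def hF (e f : V) (c : F) (x : V) : V :=
  x + ((c - 1) * QuadraticMap.polar (⇑Q) f x) • e + ((c⁻¹ - 1) * QuadraticMap.polar (⇑Q) e x) • f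

theorem polar_self_zero {u : V} (hu : Q u = 0) : QuadraticMap.polar (⇑Q) u u = 0 := by
  rw [QuadraticMap.polar_self, hu, smul_zero]

theorem Q_three (x e f : V) (s t : F) :
    Q (x + s • e + t • f) = Q x + s * s * Q e + t * t * Q f + s * QuadraticMap.polar (⇑Q) x e
      + t * QuadraticMap.polar (⇑Q) x f + s * t * QuadraticMap.polar (⇑Q) e f := by
  rw [QuadraticMap.map_add (⇑Q), QuadraticMap.map_add (⇑Q), QuadraticMap.map_smul,
    QuadraticMap.map_smul, QuadraticMap.polar_add_left, QuadraticMap.polar_smul_right,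
    QuadraticMap.polar_smul_right, QuadraticMap.polar_smul_left, QuadraticMap.polar_smul_right]
  simp only [smul_eq_mul]
  ring

theorem polar_eF (u a x c : V) :
    QuadraticMap.polar (⇑Q) c (eF Q u a x) = QuadraticMap.polar (⇑Q) c x
      + (QuadraticMap.polar (⇑Q) a x - Q a * QuadraticMap.polar (⇑Q) u x)
        * QuadraticMap.polar (⇑Q) c u
      - QuadraticMap.polar (⇑Q) u x * QuadraticMap.polar (⇑Q) c a := by
  unfold eF
  rw [QuadraticMap.polar_sub_right, QuadraticMap.polar_sub_right, QuadraticMap.polar_add_right,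
    QuadraticMap.polar_smul_right, QuadraticMap.polar_smul_right, QuadraticMap.polar_smul_right]
  simp only [smul_eq_mul]
  ring

theorem eF_eq (u a x : V) :
    eF Q u a x = x + (QuadraticMap.polar (⇑Q) a x - Q a * QuadraticMap.polar (⇑Q) u x) • u
      + (-QuadraticMap.polar (⇑Q) u x) • a := by
  unfold eF
  module

/-- `E_{u,a}` preserves `Q`. -/
theorem Q_eF {u a : V} (hu : Q u = 0) (hua : QuadraticMap.polar (⇑Q) u a = 0) (x : V) :
    Q (eF Q u a x) = Q x := by
  rw [eF_eq, Q_three, hu, hua, QuadraticMap.polar_comm (⇑Q) x u, QuadraticMap.polar_comm (⇑Q) x a]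
  ring

theorem eF_add_vec (u a x y : V) : eF Q u a (x + y) = eF Q u a x + eF Q u a y := by
  unfold eF
  rw [QuadraticMap.polar_add_right, QuadraticMap.polar_add_right]
  module

theorem eF_smul_vec (u a x : V) (c : F) : eF Q u a (c • x) = c • eF Q u a x := by
  unfold eF
  rw [QuadraticMap.polar_smul_right, QuadraticMap.polar_smul_right]
  simp only [smul_eq_mul]
  module

/-- `E_{u,a} E_{u,b} = E_{u,a+b}`. -/
theorem eF_eF {u a b : V} (hu : Q u = 0) (hua : QuadraticMap.polar (⇑Q) u a = 0)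
    (hub : QuadraticMap.polar (⇑Q) u b = 0) (x : V) :
    eF Q u a (eF Q u b x) = eF Q u (a + b) x := by
  have huu := polar_self_zero Q hu
  have h1 : QuadraticMap.polar (⇑Q) u (eF Q u b x) = QuadraticMap.polar (⇑Q) u x := by
    rw [polar_eF, huu, hub]; ring
  have h2 : QuadraticMap.polar (⇑Q) a (eF Q u b x) = QuadraticMap.polar (⇑Q) a x
      - QuadraticMap.polar (⇑Q) u x * QuadraticMap.polar (⇑Q) a b := by
    rw [polar_eF, QuadraticMap.polar_comm (⇑Q) a u, hua]; ring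
  have h3 : Q (a + b) = Q a + Q b + QuadraticMap.polar (⇑Q) a b := QuadraticMap.map_add (⇑Q) a b
  rw [eF_eq Q u a, h1, h2, eF_eq Q u b, eF_eq Q u (a + b), QuadraticMap.polar_add_left, h3]
  module

theorem eF_zero (u x : V) : eF Q u 0 x = x := by
  unfold eF
  rw [QuadraticMap.polar_zero_left, map_zero]
  module

theorem eF_neg_eF {u a : V} (hu : Q u = 0) (hua : QuadraticMap.polar (⇑Q) u a = 0) (x : V) :
    eF Q u (-a) (eF Q u a x) = x := by
  have h : QuadraticMap.polar (⇑Q) u (-a) = 0 := by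
    rw [QuadraticMap.polar_neg_right, hua, neg_zero]
  rw [eF_eF Q hu h hua, neg_add_cancel, eF_zero]

theorem eF_eF_neg {u a : V} (hu : Q u = 0) (hua : QuadraticMap.polar (⇑Q) u a = 0) (x : V) :
    eF Q u a (eF Q u (-a) x) = x := by
  have h : QuadraticMap.polar (⇑Q) u (-a) = 0 := by
    rw [QuadraticMap.polar_neg_right, hua, neg_zero]
  rw [eF_eF Q hu hua h, add_neg_cancel, eF_zero]

/-- `E_{u,a}` fixes `u`. -/
theorem eF_self {u a : V} (hu : Q u = 0) (hua : QuadraticMap.polar (⇑Q) u a = 0) :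
    eF Q u a u = u := by
  unfold eF
  rw [polar_self_zero Q hu, QuadraticMap.polar_comm (⇑Q) a u, hua]
  module

/-- on `u^⊥`: `E_{u,a} x = x + B(a,x) u`. -/
theorem eF_of_orth {u a x : V} (hx : QuadraticMap.polar (⇑Q) u x = 0) :
    eF Q u a x = x + QuadraticMap.polar (⇑Q) a x • u := by
  unfold eF
  rw [hx]
  module

/-- `E_{u, c v} = ` the Siegel transformation `x ↦ x + c B(v,x) u - c B(u,x) v` for singular `v`. -/
theorem eF_smul_singular {u v : V} (hv : Q v = 0) (c : F) (x : V) :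
    eF Q u (c • v) x = x + (c * QuadraticMap.polar (⇑Q) v x) • u
      - (c * QuadraticMap.polar (⇑Q) u x) • v := by
  unfold eF
  rw [QuadraticMap.polar_smul_left, QuadraticMap.map_smul, hv]
  simp only [smul_eq_mul]
  module

/-! ### the torus -/

theorem hF_e {e f : V} (he : Q e = 0) (hef : QuadraticMap.polar (⇑Q) e f = 1) (c : F) :
    hF Q e f c e = c • e := by
  unfold hF
  rw [polar_self_zero Q he, QuadraticMap.polar_comm (⇑Q) f e, hef]
  module

theorem hF_f {e f : V} (hf : Q f = 0) (hef : QuadraticMap.polar (⇑Q) e f = 1) (c : F) :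
    hF Q e f c f = c⁻¹ • f := by
  unfold hF
  rw [polar_self_zero Q hf, hef]
  module

theorem hF_of_orth {e f x : V} (c : F) (h1 : QuadraticMap.polar (⇑Q) e x = 0)
    (h2 : QuadraticMap.polar (⇑Q) f x = 0) : hF Q e f c x = x := by
  unfold hF
  rw [h1, h2]
  module

/-- the torus element preserves `Q`. -/
theorem Q_hF {e f : V} (he : Q e = 0) (hf : Q f = 0) (hef : QuadraticMap.polar (⇑Q) e f = 1)
    {c : F} (hc : c ≠ 0) (x : V) : Q (hF Q e f c x) = Q x := by
  unfold hF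
  rw [Q_three, he, hf, hef, QuadraticMap.polar_comm (⇑Q) x e, QuadraticMap.polar_comm (⇑Q) x f]
  field_simp
  ring

theorem hF_add_vec (e f x y : V) (c : F) : hF Q e f c (x + y) = hF Q e f c x + hF Q e f c y := by
  unfold hF
  rw [QuadraticMap.polar_add_right, QuadraticMap.polar_add_right]
  module

theorem hF_smul_vec (e f x : V) (c d : F) : hF Q e f c (d • x) = d • hF Q e f c x := by
  unfold hF
  rw [QuadraticMap.polar_smul_right, QuadraticMap.polar_smul_right]
  simp only [smul_eq_mul]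
  module

theorem polar_hF {e f : V} (c : F) (x y : V) :
    QuadraticMap.polar (⇑Q) y (hF Q e f c x) = QuadraticMap.polar (⇑Q) y x
      + (c - 1) * QuadraticMap.polar (⇑Q) f x * QuadraticMap.polar (⇑Q) y e
      + (c⁻¹ - 1) * QuadraticMap.polar (⇑Q) e x * QuadraticMap.polar (⇑Q) y f := by
  unfold hF
  rw [QuadraticMap.polar_add_right, QuadraticMap.polar_add_right,
    QuadraticMap.polar_smul_right, QuadraticMap.polar_smul_right]
  simp only [smul_eq_mul]

/-- `h(c) h(d) = h(c d)`. -/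
theorem hF_hF {e f : V} (he : Q e = 0) (hf : Q f = 0) (hef : QuadraticMap.polar (⇑Q) e f = 1)
    (c d : F) (x : V) :
    hF Q e f c (hF Q e f d x) = hF Q e f (c * d) x := by
  have h1 : QuadraticMap.polar (⇑Q) f (hF Q e f d x) = d * QuadraticMap.polar (⇑Q) f x := by
    rw [polar_hF, polar_self_zero Q hf, QuadraticMap.polar_comm (⇑Q) f e, hef]; ring
  have h2 : QuadraticMap.polar (⇑Q) e (hF Q e f d x) = d⁻¹ * QuadraticMap.polar (⇑Q) e x := by
    rw [polar_hF, polar_self_zero Q he, hef]; ring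
  have e1 : (c * d)⁻¹ = c⁻¹ * d⁻¹ := by rw [mul_inv]
  unfold hF at h1 h2 ⊢
  rw [h1, h2, e1]
  module

theorem hF_one (e f x : V) : hF Q e f 1 x = x := by
  unfold hF
  rw [inv_one, sub_self, zero_mul, zero_mul, zero_smul, zero_smul, add_zero, add_zero]

/-! ### reduction of points -/

/-- POINT REDUCTION.  `e, f` a hyperbolic pair inside the subspace `M`,
`W = {a ∈ M | a ⊥ e, f}`.  If every non-zero singular vector of `W` is non-orthogonal to some
vector of `W`, and `W` has a non-singular vector, then every non-zero singular `p ∈ M` is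
mapped to a non-zero multiple of `e` by `E_{f,a₂} E_{e,a₁}` with `a₁, a₂ ∈ W`. -/
theorem point_red {e f : V} (he : Q e = 0) (hf : Q f = 0)
    (hef : QuadraticMap.polar (⇑Q) e f = 1) (M : Submodule F V) (heM : e ∈ M) (hfM : f ∈ M)
    (h1 : ∀ w ∈ M, QuadraticMap.polar (⇑Q) e w = 0 → QuadraticMap.polar (⇑Q) f w = 0 →
      Q w = 0 → w ≠ 0 → ∃ a ∈ M, QuadraticMap.polar (⇑Q) e a = 0 ∧
        QuadraticMap.polar (⇑Q) f a = 0 ∧ QuadraticMap.polar (⇑Q) w a ≠ 0)
    (h2 : ∃ a ∈ M, QuadraticMap.polar (⇑Q) e a = 0 ∧ QuadraticMap.polar (⇑Q) f a = 0 ∧ Q a ≠ 0)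
    {p : V} (hpM : p ∈ M) (hp : Q p = 0) (hp0 : p ≠ 0) :
    ∃ a1 ∈ M, QuadraticMap.polar (⇑Q) e a1 = 0 ∧ QuadraticMap.polar (⇑Q) f a1 = 0 ∧
    ∃ a2 ∈ M, QuadraticMap.polar (⇑Q) e a2 = 0 ∧ QuadraticMap.polar (⇑Q) f a2 = 0 ∧
    ∃ c : F, c ≠ 0 ∧ eF Q f a2 (eF Q e a1 p) = c • e := by
  have hfe : QuadraticMap.polar (⇑Q) f e = 1 := by rw [QuadraticMap.polar_comm]; exact hef
  have hee := polar_self_zero Q he
  have hff := polar_self_zero Q hf
  -- Step A
  have stepA : ∃ a1 ∈ M, QuadraticMap.polar (⇑Q) e a1 = 0 ∧ QuadraticMap.polar (⇑Q) f a1 = 0 ∧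
      QuadraticMap.polar (⇑Q) f (eF Q e a1 p) ≠ 0 := by
    have key : ∀ a1 : V, QuadraticMap.polar (⇑Q) f a1 = 0 →
        QuadraticMap.polar (⇑Q) f (eF Q e a1 p) = QuadraticMap.polar (⇑Q) f p
          + QuadraticMap.polar (⇑Q) a1 p - QuadraticMap.polar (⇑Q) e p * Q a1 := by
      intro a1 ha1
      rw [polar_eF, hfe, ha1]; ring
    by_cases hmu : QuadraticMap.polar (⇑Q) f p = 0
    · -- μ = 0
      obtain ⟨w, hw⟩ : ∃ w : V, w = p - QuadraticMap.polar (⇑Q) e p • f := ⟨_, rfl⟩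
      have hwM : w ∈ M := by rw [hw]; exact M.sub_mem hpM (M.smul_mem _ hfM)
      have hwe : QuadraticMap.polar (⇑Q) e w = 0 := by
        rw [hw, QuadraticMap.polar_sub_right, QuadraticMap.polar_smul_right, hef]
        simp
      have hwf : QuadraticMap.polar (⇑Q) f w = 0 := by
        rw [hw, QuadraticMap.polar_sub_right, QuadraticMap.polar_smul_right, hff, hmu]
        simp
      have hwQ : Q w = 0 := by
        have e1 : w = p + (0 : F) • e + (-QuadraticMap.polar (⇑Q) e p) • f := by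
          rw [hw]; module
        rw [e1, Q_three, hp, he, hf, QuadraticMap.polar_comm (⇑Q) p f, hmu]
        ring
      by_cases hw0 : w = 0
      · -- p = λ f
        have hpf : p = QuadraticMap.polar (⇑Q) e p • f := by
          rw [hw0] at hw
          exact (sub_eq_zero.mp hw.symm)
        have hlam : QuadraticMap.polar (⇑Q) e p ≠ 0 := by
          intro h0
          rw [h0, zero_smul] at hpf
          exact hp0 hpf
        obtain ⟨a0, ha0M, ha0e, ha0f, ha0Q⟩ := h2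
        refine ⟨a0, ha0M, ha0e, ha0f, ?_⟩
        rw [key a0 ha0f, hmu]
        have : QuadraticMap.polar (⇑Q) a0 p = 0 := by
          rw [hpf, QuadraticMap.polar_smul_right, QuadraticMap.polar_comm (⇑Q) a0 f, ha0f]
          simp
        rw [this]
        simp only [zero_add, zero_sub, ne_eq, neg_eq_zero, mul_eq_zero, not_or]
        exact ⟨hlam, ha0Q⟩
      · obtain ⟨a, haM, hae, haf, haw⟩ := h1 w hwM hwe hwf hwQ hw0
        have hap : QuadraticMap.polar (⇑Q) a p = QuadraticMap.polar (⇑Q) w a := by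
          rw [QuadraticMap.polar_comm (⇑Q) w a, hw, QuadraticMap.polar_sub_right,
            QuadraticMap.polar_smul_right, QuadraticMap.polar_comm (⇑Q) a f, haf]
          simp
        by_cases hgood : QuadraticMap.polar (⇑Q) a p - QuadraticMap.polar (⇑Q) e p * Q a = 0
        · -- use a + w
          have hlam : QuadraticMap.polar (⇑Q) e p ≠ 0 := by
            intro h0
            rw [h0, zero_mul, sub_zero, hap] at hgood
            exact haw hgood
          refine ⟨a + w, M.add_mem haM hwM, ?_, ?_, ?_⟩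
          · rw [QuadraticMap.polar_add_right, hae, hwe, add_zero]
          · rw [QuadraticMap.polar_add_right, haf, hwf, add_zero]
          · have hwp : QuadraticMap.polar (⇑Q) w p = 0 := by
              rw [hw, QuadraticMap.polar_sub_left, QuadraticMap.polar_smul_left,
                QuadraticMap.polar_self, hp, hmu]
              simp
            have hQaw : Q (a + w) = Q a + QuadraticMap.polar (⇑Q) w a := by
              rw [QuadraticMap.map_add (⇑Q), hwQ, add_zero, QuadraticMap.polar_comm (⇑Q) a w]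
            rw [key (a + w) (by rw [QuadraticMap.polar_add_right, haf, hwf, add_zero]), hmu,
              QuadraticMap.polar_add_left, hwp, hQaw]
            have e2 : (0 : F) + (QuadraticMap.polar (⇑Q) a p + 0)
                - QuadraticMap.polar (⇑Q) e p * (Q a + QuadraticMap.polar (⇑Q) w a)
                = -(QuadraticMap.polar (⇑Q) e p * QuadraticMap.polar (⇑Q) w a) := by
              linear_combination hgood
            rw [e2]
            exact neg_ne_zero.mpr (mul_ne_zero hlam haw)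
        · refine ⟨a, haM, hae, haf, ?_⟩
          rw [key a haf, hmu, zero_add]
          exact hgood
    · refine ⟨0, M.zero_mem, ?_, ?_, ?_⟩
      · rw [QuadraticMap.polar_zero_right]
      · rw [QuadraticMap.polar_zero_right]
      · rw [eF_zero]; exact hmu
  obtain ⟨a1, ha1M, ha1e, ha1f, hnu⟩ := stepA
  refine ⟨a1, ha1M, ha1e, ha1f, ?_⟩
  obtain ⟨p1, hp1⟩ : ∃ p1 : V, p1 = eF Q e a1 p := ⟨_, rfl⟩
  rw [← hp1] at hnu ⊢
  have hp1M : p1 ∈ M := by
    rw [hp1]
    unfold eF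
    exact M.sub_mem (M.sub_mem (M.add_mem hpM (M.smul_mem _ heM)) (M.smul_mem _ ha1M))
      (M.smul_mem _ heM)
  have hp1Q : Q p1 = 0 := by rw [hp1, Q_eF Q he ha1e, hp]
  obtain ⟨ν, hν⟩ : ∃ ν : F, ν = QuadraticMap.polar (⇑Q) f p1 := ⟨_, rfl⟩
  obtain ⟨l1, hl1⟩ : ∃ l1 : F, l1 = QuadraticMap.polar (⇑Q) e p1 := ⟨_, rfl⟩
  rw [← hν] at hnu
  obtain ⟨w1, hw1⟩ : ∃ w1 : V, w1 = p1 - ν • e - l1 • f := ⟨_, rfl⟩
  have hw1M : w1 ∈ M := by
    rw [hw1]; exact M.sub_mem (M.sub_mem hp1M (M.smul_mem _ heM)) (M.smul_mem _ hfM)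
  have hw1e : QuadraticMap.polar (⇑Q) e w1 = 0 := by
    rw [hw1, QuadraticMap.polar_sub_right, QuadraticMap.polar_sub_right,
      QuadraticMap.polar_smul_right, QuadraticMap.polar_smul_right, hee, hef, ← hl1]
    simp
  have hw1f : QuadraticMap.polar (⇑Q) f w1 = 0 := by
    rw [hw1, QuadraticMap.polar_sub_right, QuadraticMap.polar_sub_right,
      QuadraticMap.polar_smul_right, QuadraticMap.polar_smul_right, hff, hfe, ← hν]
    simp
  have hw1p : QuadraticMap.polar (⇑Q) w1 p1 = -(2 * (ν * l1)) := by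
    rw [hw1, QuadraticMap.polar_sub_left, QuadraticMap.polar_sub_left,
      QuadraticMap.polar_smul_left, QuadraticMap.polar_smul_left, QuadraticMap.polar_self, hp1Q,
      ← hl1, ← hν]
    simp only [smul_eq_mul, smul_zero]
    ring
  have hw1Q : Q w1 = -(ν * l1) := by
    have e1 : w1 = p1 + (-ν) • e + (-l1) • f := by rw [hw1]; module
    rw [e1, Q_three, hp1Q, he, hf, hef, QuadraticMap.polar_comm (⇑Q) p1 e,
      QuadraticMap.polar_comm (⇑Q) p1 f, ← hl1, ← hν]
    ring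
  refine ⟨ν⁻¹ • w1, M.smul_mem _ hw1M, ?_, ?_, ν, hnu, ?_⟩
  · rw [QuadraticMap.polar_smul_right, hw1e, smul_zero]
  · rw [QuadraticMap.polar_smul_right, hw1f, smul_zero]
  · unfold eF
    rw [QuadraticMap.polar_smul_left, hw1p, QuadraticMap.map_smul, hw1Q, ← hν]
    simp only [smul_eq_mul]
    have e3 : ν⁻¹ * -(2 * (ν * l1)) = -(2 * l1) := by field_simp
    have e4 : ν⁻¹ * ν⁻¹ * -(ν * l1) * ν = -l1 := by field_simp
    rw [e3, e4, smul_smul, mul_inv_cancel₀ hnu, one_smul, hw1]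
    module

/-- PARTNER REDUCTION: a singular `p' ∈ M` with `B(e,p') = 1` is mapped to `f` by some
`E_{e,a}`, `a ∈ W` (which fixes `e`). -/
theorem partner_red {e f : V} (he : Q e = 0) (hf : Q f = 0)
    (hef : QuadraticMap.polar (⇑Q) e f = 1) (M : Submodule F V) (heM : e ∈ M) (hfM : f ∈ M)
    {p : V} (hpM : p ∈ M) (hp : Q p = 0) (hep : QuadraticMap.polar (⇑Q) e p = 1) :
    ∃ a ∈ M, QuadraticMap.polar (⇑Q) e a = 0 ∧ QuadraticMap.polar (⇑Q) f a = 0 ∧
      eF Q e a p = f := by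
  have hfe : QuadraticMap.polar (⇑Q) f e = 1 := by rw [QuadraticMap.polar_comm]; exact hef
  have hee := polar_self_zero Q he
  have hff := polar_self_zero Q hf
  obtain ⟨μ, hμ⟩ : ∃ μ : F, μ = QuadraticMap.polar (⇑Q) f p := ⟨_, rfl⟩
  obtain ⟨w, hw⟩ : ∃ w : V, w = p - μ • e - f := ⟨_, rfl⟩
  have hwM : w ∈ M := by
    rw [hw]; exact M.sub_mem (M.sub_mem hpM (M.smul_mem _ heM)) hfM
  have hwe : QuadraticMap.polar (⇑Q) e w = 0 := by
    rw [hw, QuadraticMap.polar_sub_right, QuadraticMap.polar_sub_right,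
      QuadraticMap.polar_smul_right, hee, hef, hep]
    simp
  have hwf : QuadraticMap.polar (⇑Q) f w = 0 := by
    rw [hw, QuadraticMap.polar_sub_right, QuadraticMap.polar_sub_right,
      QuadraticMap.polar_smul_right, hff, hfe, ← hμ]
    simp
  have hwp : QuadraticMap.polar (⇑Q) w p = -(2 * μ) := by
    rw [hw, QuadraticMap.polar_sub_left, QuadraticMap.polar_sub_left,
      QuadraticMap.polar_smul_left, QuadraticMap.polar_self, hp, hep, ← hμ]
    simp only [smul_eq_mul, smul_zero]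
    ring
  have hwQ : Q w = -μ := by
    have e1 : w = p + (-μ) • e + (-1 : F) • f := by rw [hw]; module
    rw [e1, Q_three, hp, he, hf, hef, QuadraticMap.polar_comm (⇑Q) p e,
      QuadraticMap.polar_comm (⇑Q) p f, hep, ← hμ]
    ring
  refine ⟨w, hwM, hwe, hwf, ?_⟩
  unfold eF
  rw [hwp, hep, hwQ, hw]
  module

end abstract

section matrix

open Cfsg.Agent.Lib.Helper14

variable {ι : Type} [Fintype ι] [DecidableEq ι] {F : Type*} [Field F]
  (Q : QuadraticForm F (ι → F))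

theorem mat_ext {A B : Matrix ι ι F} (h : ∀ x, A *ᵥ x = B *ᵥ x) : A = B := by
  apply Matrix.toLin'.injective
  apply LinearMap.ext
  intro x
  rw [Matrix.toLin'_apply, Matrix.toLin'_apply]
  exact h x

/-- the Eichler matrix `E_{u,a}`. -/
def eich (u a : ι → F) : Matrix ι ι F :=
  1 + vecMulVec u (Cfsg.polarVec (⇑Q) a) - vecMulVec a (Cfsg.polarVec (⇑Q) u)
    - Q a • vecMulVec u (Cfsg.polarVec (⇑Q) u)

theorem eich_mulVec (u a x : ι → F) : eich Q u a *ᵥ x = eF Q u a x := by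
  unfold eich eF
  rw [sub_mulVec, sub_mulVec, add_mulVec, one_mulVec, smul_mulVec, vecMulVec_mulVec,
    vecMulVec_mulVec, vecMulVec_mulVec, polarVec_dotProduct, polarVec_dotProduct]
  simp only [op_smul_eq_smul, smul_smul]

/-- the torus matrix `e ↦ c e`, `f ↦ c⁻¹ f`. -/
def hyp (e f : ι → F) (c : F) : Matrix ι ι F :=
  1 + (c - 1) • vecMulVec e (Cfsg.polarVec (⇑Q) f)
    + (c⁻¹ - 1) • vecMulVec f (Cfsg.polarVec (⇑Q) e)

theorem hyp_mulVec (e f x : ι → F) (c : F) : hyp Q e f c *ᵥ x = hF Q e f c x := by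
  unfold hyp hF
  rw [add_mulVec, add_mulVec, one_mulVec, smul_mulVec, smul_mulVec, vecMulVec_mulVec,
    vecMulVec_mulVec, polarVec_dotProduct, polarVec_dotProduct]
  simp only [op_smul_eq_smul, smul_smul]

theorem eich_mul {u a b : ι → F} (hu : Q u = 0) (hua : QuadraticMap.polar (⇑Q) u a = 0)
    (hub : QuadraticMap.polar (⇑Q) u b = 0) : eich Q u a * eich Q u b = eich Q u (a + b) := by
  apply mat_ext
  intro x
  rw [← mulVec_mulVec, eich_mulVec, eich_mulVec, eich_mulVec, eF_eF Q hu hua hub]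

theorem eich_zero (u : ι → F) : eich Q u 0 = 1 := by
  apply mat_ext
  intro x
  rw [eich_mulVec, eF_zero, one_mulVec]

theorem eich_mul_neg {u a : ι → F} (hu : Q u = 0) (hua : QuadraticMap.polar (⇑Q) u a = 0) :
    eich Q u a * eich Q u (-a) = 1 := by
  have h : QuadraticMap.polar (⇑Q) u (-a) = 0 := by
    rw [QuadraticMap.polar_neg_right, hua, neg_zero]
  rw [eich_mul Q hu hua h, add_neg_cancel, eich_zero]

theorem eich_neg_mul {u a : ι → F} (hu : Q u = 0) (hua : QuadraticMap.polar (⇑Q) u a = 0) :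
    eich Q u (-a) * eich Q u a = 1 := by
  have h : QuadraticMap.polar (⇑Q) u (-a) = 0 := by
    rw [QuadraticMap.polar_neg_right, hua, neg_zero]
  rw [eich_mul Q hu h hua, neg_add_cancel, eich_zero]

theorem eich_isom {u a : ι → F} (hu : Q u = 0) (hua : QuadraticMap.polar (⇑Q) u a = 0)
    (x : ι → F) : Q (eich Q u a *ᵥ x) = Q x := by
  rw [eich_mulVec, Q_eF Q hu hua]

/-- `E_{u, c v}` is the Siegel matrix `siegelMatrix Q v u c` for singular `v`. -/
theorem eich_smul_singular (u : ι → F) {v : ι → F} (hv : Q v = 0) (c : F) :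
    eich Q u (c • v) = Cfsg.siegelMatrix (⇑Q) v u c := by
  apply mat_ext
  intro x
  rw [eich_mulVec, eF_smul_singular Q hv, siegelMatrix_mulVec]

theorem hyp_mul {e f : ι → F} (he : Q e = 0) (hf : Q f = 0)
    (hef : QuadraticMap.polar (⇑Q) e f = 1) (c d : F) :
    hyp Q e f c * hyp Q e f d = hyp Q e f (c * d) := by
  apply mat_ext
  intro x
  rw [← mulVec_mulVec, hyp_mulVec, hyp_mulVec, hyp_mulVec, hF_hF Q he hf hef]

theorem hyp_one (e f : ι → F) : hyp Q e f 1 = 1 := by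
  apply mat_ext
  intro x
  rw [hyp_mulVec, hF_one, one_mulVec]

theorem hyp_mul_inv {e f : ι → F} (he : Q e = 0) (hf : Q f = 0)
    (hef : QuadraticMap.polar (⇑Q) e f = 1) {c : F} (hc : c ≠ 0) :
    hyp Q e f c * hyp Q e f c⁻¹ = 1 := by
  rw [hyp_mul Q he hf hef, mul_inv_cancel₀ hc, hyp_one]

theorem hyp_inv_mul {e f : ι → F} (he : Q e = 0) (hf : Q f = 0)
    (hef : QuadraticMap.polar (⇑Q) e f = 1) {c : F} (hc : c ≠ 0) :
    hyp Q e f c⁻¹ * hyp Q e f c = 1 := by
  rw [hyp_mul Q he hf hef, inv_mul_cancel₀ hc, hyp_one]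

theorem hyp_isom {e f : ι → F} (he : Q e = 0) (hf : Q f = 0)
    (hef : QuadraticMap.polar (⇑Q) e f = 1) {c : F} (hc : c ≠ 0) (x : ι → F) :
    Q (hyp Q e f c *ᵥ x) = Q x := by
  rw [hyp_mulVec, Q_hF Q he hf hef hc]

/-- the Eichler element in `GL`. -/
def eichGL {u a : ι → F} (hu : Q u = 0) (hua : QuadraticMap.polar (⇑Q) u a = 0) :
    Matrix.GeneralLinearGroup ι F :=
  ⟨eich Q u a, eich Q u (-a), eich_mul_neg Q hu hua, eich_neg_mul Q hu hua⟩

theorem eichGL_coe {u a : ι → F} (hu : Q u = 0) (hua : QuadraticMap.polar (⇑Q) u a = 0) :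
    ((eichGL Q hu hua : Matrix.GeneralLinearGroup ι F) : Matrix ι ι F) = eich Q u a := rfl

theorem eichGL_mem {u a : ι → F} (hu : Q u = 0) (hua : QuadraticMap.polar (⇑Q) u a = 0) :
    eichGL Q hu hua ∈ Cfsg.isometryGroup F (⇑Q) := by
  rw [mem_isometryGroup_iff]
  intro x
  exact eich_isom Q hu hua x

/-- the torus element in `GL`. -/
def hypGL {e f : ι → F} (he : Q e = 0) (hf : Q f = 0)
    (hef : QuadraticMap.polar (⇑Q) e f = 1) {c : F} (hc : c ≠ 0) :
    Matrix.GeneralLinearGroup ι F :=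
  ⟨hyp Q e f c, hyp Q e f c⁻¹, hyp_mul_inv Q he hf hef hc, hyp_inv_mul Q he hf hef hc⟩

theorem hypGL_coe {e f : ι → F} (he : Q e = 0) (hf : Q f = 0)
    (hef : QuadraticMap.polar (⇑Q) e f = 1) {c : F} (hc : c ≠ 0) :
    ((hypGL Q he hf hef hc : Matrix.GeneralLinearGroup ι F) : Matrix ι ι F) = hyp Q e f c := rfl

theorem hypGL_mem {e f : ι → F} (he : Q e = 0) (hf : Q f = 0)
    (hef : QuadraticMap.polar (⇑Q) e f = 1) {c : F} (hc : c ≠ 0) :
    hypGL Q he hf hef hc ∈ Cfsg.isometryGroup F (⇑Q) := by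
  rw [mem_isometryGroup_iff]
  intro x
  exact hyp_isom Q he hf hef hc x

omit [DecidableEq ι] in
/-- a `Q`-preserving matrix preserves the polar form. -/
theorem polar_of_isom {A : Matrix ι ι F} (hA : ∀ x, Q (A *ᵥ x) = Q x) (x y : ι → F) :
    QuadraticMap.polar (⇑Q) (A *ᵥ x) (A *ᵥ y) = QuadraticMap.polar (⇑Q) x y := by
  unfold QuadraticMap.polar
  rw [← mulVec_add, hA, hA, hA]

/-- ISOMETRY REDUCTION.  `e, f` a hyperbolic pair inside the subspace `M`,
`W = {a ∈ M | a ⊥ e, f}` satisfying the two hypotheses of `point_red`.  For every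
`Q`-preserving matrix `g` with `g e, g f ∈ M` there are `a₁ a₂ a₃ ∈ W` and `c ≠ 0` such that
`E_{e,a₃} * h(c) * E_{f,a₂} * E_{e,a₁} * g` fixes `e` and `f`. -/
theorem isom_red {e f : ι → F} (he : Q e = 0) (hf : Q f = 0)
    (hef : QuadraticMap.polar (⇑Q) e f = 1) (M : Submodule F (ι → F)) (heM : e ∈ M)
    (hfM : f ∈ M)
    (h1 : ∀ w ∈ M, QuadraticMap.polar (⇑Q) e w = 0 → QuadraticMap.polar (⇑Q) f w = 0 →
      Q w = 0 → w ≠ 0 → ∃ a ∈ M, QuadraticMap.polar (⇑Q) e a = 0 ∧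
        QuadraticMap.polar (⇑Q) f a = 0 ∧ QuadraticMap.polar (⇑Q) w a ≠ 0)
    (h2 : ∃ a ∈ M, QuadraticMap.polar (⇑Q) e a = 0 ∧ QuadraticMap.polar (⇑Q) f a = 0 ∧ Q a ≠ 0)
    (g : Matrix ι ι F) (hg : ∀ x, Q (g *ᵥ x) = Q x) (hge : g *ᵥ e ∈ M) (hgf : g *ᵥ f ∈ M) :
    ∃ a1 ∈ M, QuadraticMap.polar (⇑Q) e a1 = 0 ∧ QuadraticMap.polar (⇑Q) f a1 = 0 ∧
    ∃ a2 ∈ M, QuadraticMap.polar (⇑Q) e a2 = 0 ∧ QuadraticMap.polar (⇑Q) f a2 = 0 ∧
    ∃ a3 ∈ M, QuadraticMap.polar (⇑Q) e a3 = 0 ∧ QuadraticMap.polar (⇑Q) f a3 = 0 ∧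
    ∃ c : F, c ≠ 0 ∧
      (eich Q e a3 * hyp Q e f c * eich Q f a2 * eich Q e a1 * g) *ᵥ e = e ∧
      (eich Q e a3 * hyp Q e f c * eich Q f a2 * eich Q e a1 * g) *ᵥ f = f := by
  have hfe : QuadraticMap.polar (⇑Q) f e = 1 := by rw [QuadraticMap.polar_comm]; exact hef
  have hgB := polar_of_isom Q hg
  have hp : Q (g *ᵥ e) = 0 := by rw [hg, he]
  have hp0 : g *ᵥ e ≠ 0 := by
    intro h0
    have := hgB e f
    rw [h0, QuadraticMap.polar_zero_left, hef] at this
    exact zero_ne_one this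
  obtain ⟨a1, ha1M, ha1e, ha1f, a2, ha2M, ha2e, ha2f, c, hc, hred⟩ :=
    point_red Q he hf hef M heM hfM h1 h2 hge hp hp0
  have hc' : c⁻¹ ≠ 0 := inv_ne_zero hc
  -- the partial product
  obtain ⟨A, hA⟩ : ∃ A : Matrix ι ι F, A = hyp Q e f c⁻¹ * eich Q f a2 * eich Q e a1 * g :=
    ⟨_, rfl⟩
  have hAv : ∀ x, A *ᵥ x = hF Q e f c⁻¹ (eF Q f a2 (eF Q e a1 (g *ᵥ x))) := by
    intro x
    rw [hA, ← mulVec_mulVec, ← mulVec_mulVec, ← mulVec_mulVec, hyp_mulVec, eich_mulVec,
      eich_mulVec]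
  have hAQ : ∀ x, Q (A *ᵥ x) = Q x := by
    intro x
    rw [hAv, Q_hF Q he hf hef hc', Q_eF Q hf ha2f, Q_eF Q he ha1e, hg]
  have hAe : A *ᵥ e = e := by
    rw [hAv, hred, hF_smul_vec, hF_e Q he hef, smul_smul, mul_inv_cancel₀ hc, one_smul]
  have memE : ∀ (u a x : ι → F), u ∈ M → a ∈ M → x ∈ M → eF Q u a x ∈ M := by
    intro u a x hu ha hx
    unfold eF
    exact M.sub_mem (M.sub_mem (M.add_mem hx (M.smul_mem _ hu)) (M.smul_mem _ ha))
      (M.smul_mem _ hu)
  have hAfM : A *ᵥ f ∈ M := by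
    rw [hAv]
    unfold hF
    have := memE f a2 _ hfM ha2M (memE e a1 _ heM ha1M hgf)
    exact M.add_mem (M.add_mem this (M.smul_mem _ heM)) (M.smul_mem _ hfM)
  have hAfQ : Q (A *ᵥ f) = 0 := by rw [hAQ, hf]
  have hAB : QuadraticMap.polar (⇑Q) e (A *ᵥ f) = 1 := by
    have := polar_of_isom Q hAQ e f
    rw [hAe] at this
    rw [this, hef]
  obtain ⟨a3, ha3M, ha3e, ha3f, h3⟩ := partner_red Q he hf hef M heM hfM hAfM hAfQ hAB
  refine ⟨a1, ha1M, ha1e, ha1f, a2, ha2M, ha2e, ha2f, a3, ha3M, ha3e, ha3f, c⁻¹, hc', ?_, ?_⟩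
  · have e1 : eich Q e a3 * hyp Q e f c⁻¹ * eich Q f a2 * eich Q e a1 * g = eich Q e a3 * A := by
      rw [hA]; simp only [Matrix.mul_assoc]
    rw [e1, ← mulVec_mulVec, hAe, eich_mulVec, eF_self Q he ha3e]
  · have e1 : eich Q e a3 * hyp Q e f c⁻¹ * eich Q f a2 * eich Q e a1 * g = eich Q e a3 * A := by
      rw [hA]; simp only [Matrix.mul_assoc]
    rw [e1, ← mulVec_mulVec, eich_mulVec, h3]

end matrix

end Cfsg.Agent.Lib.Helper43.CHO
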