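import Mathlib
import Cfsg.Agent.Lib.Helper43.CHO.HypRed
import Cfsg.Agent.Lib.Helper14.Forms

/-!
# CHO (S1083): `Ω(quadFormOdd 2 F)` is generated by the eight root families, for every field
with more than two elements (all characteristics).
-/

set_option autoImplicit false

namespace Cfsg.Agent.Lib.Helper43.CHO

open Matrix
open scoped commutatorElement

/-! ### a group-theoretic criterion -/

/-- If `G = ⟨S, T⟩`, `T` is closed under inverses and consists of pairwise commuting elements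
normalising `⟨S⟩`, and `S` consists of commutators, then `[G, G] = ⟨S⟩`. -/
theorem commutator_eq_closure_of {G : Type*} [Group G] (S T : Set G)
    (hgen : Subgroup.closure (S ∪ T) = ⊤)
    (hTinv : ∀ t ∈ T, t⁻¹ ∈ T)
    (hconj : ∀ t ∈ T, ∀ s ∈ S, t * s * t⁻¹ ∈ Subgroup.closure S)
    (hcomm : ∀ t ∈ T, ∀ t' ∈ T, t * t' = t' * t)
    (hS : ∀ s ∈ S, s ∈ commutator G) :
    commutator G = Subgroup.closure S := by
  obtain ⟨R, hR⟩ : ∃ R : Subgroup G, R = Subgroup.closure S := ⟨_, rfl⟩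
  rw [← hR]
  have hconj' : ∀ t ∈ T, ∀ n ∈ R, t * n * t⁻¹ ∈ R := by
    intro t ht n hn
    have h1 : R ≤ R.comap (MulAut.conj t).toMonoidHom := by
      rw [hR, Subgroup.closure_le]
      intro s hs
      rw [SetLike.mem_coe, Subgroup.mem_comap]
      exact hconj t ht s hs
    have h := h1 hn
    rw [Subgroup.mem_comap] at h
    exact h
  have hnorm : R.Normal := by
    rw [← Subgroup.normalizer_eq_top_iff, eq_top_iff, ← hgen, Subgroup.closure_le]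
    intro x hx
    rcases hx with hx | hx
    · exact Subgroup.le_normalizer (by rw [hR]; exact Subgroup.subset_closure hx)
    · rw [SetLike.mem_coe, Subgroup.mem_normalizer_iff]
      intro n
      constructor
      · exact hconj' x hx n
      · intro h
        have h2 := hconj' x⁻¹ (hTinv x hx) _ h
        have e : x⁻¹ * (x * n * x⁻¹) * x⁻¹⁻¹ = n := by group
        rwa [e] at h2
  apply le_antisymm
  · have hq : ∀ a b : G ⧸ R, a * b = b * a := by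
      have hK : Subgroup.closure ((QuotientGroup.mk' R) '' (S ∪ T)) = ⊤ := by
        rw [← MonoidHom.map_closure, hgen, ← MonoidHom.range_eq_map, MonoidHom.range_eq_top]
        exact QuotientGroup.mk'_surjective R
      have hKc : ∀ x ∈ (QuotientGroup.mk' R) '' (S ∪ T), ∀ y ∈ (QuotientGroup.mk' R) '' (S ∪ T),
          x * y = y * x := by
        rintro _ ⟨x, hx, rfl⟩ _ ⟨y, hy, rfl⟩
        rcases hx with hx | hx
        · have h1 : (QuotientGroup.mk' R) x = 1 :=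
            (QuotientGroup.eq_one_iff x).2 (by rw [hR]; exact Subgroup.subset_closure hx)
          rw [h1, one_mul, mul_one]
        · rcases hy with hy | hy
          · have h1 : (QuotientGroup.mk' R) y = 1 :=
              (QuotientGroup.eq_one_iff y).2 (by rw [hR]; exact Subgroup.subset_closure hy)
            rw [h1, one_mul, mul_one]
          · rw [← map_mul, ← map_mul, hcomm x hx y hy]
      intro a b
      have ha : a ∈ Subgroup.closure ((QuotientGroup.mk' R) '' (S ∪ T)) := by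
        rw [hK]; exact Subgroup.mem_top _
      have hb : b ∈ Subgroup.closure ((QuotientGroup.mk' R) '' (S ∪ T)) := by
        rw [hK]; exact Subgroup.mem_top _
      letI := Subgroup.closureCommGroupOfComm hKc
      have h3 := mul_comm (⟨a, ha⟩ : Subgroup.closure ((QuotientGroup.mk' R) '' (S ∪ T))) ⟨b, hb⟩
      exact congrArg Subtype.val h3
    rw [commutator_eq_closure, Subgroup.closure_le]
    rintro _ ⟨g, h, rfl⟩
    have h4 : (QuotientGroup.mk' R) ⁅g, h⁆ = 1 := by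
      rw [map_commutatorElement, commutatorElement_eq_one_iff_mul_comm]
      exact hq _ _
    exact (QuotientGroup.eq_one_iff _).1 h4
  · rw [hR, Subgroup.closure_le]
    exact hS

section more

variable {F V : Type*} [Field F] [AddCommGroup V] [Module F V] (Q : QuadraticForm F V)

/-- `E_{d u, a} = E_{u, d a}`. -/
theorem eF_scale (u a x : V) (d : F) : eF Q (d • u) a x = eF Q u (d • a) x := by
  unfold eF
  rw [QuadraticMap.polar_smul_left, QuadraticMap.polar_smul_left, QuadraticMap.map_smul]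
  simp only [smul_eq_mul]
  module

end more

section gen

open Cfsg.Agent.Lib.Helper14

variable {ι : Type} [Fintype ι] [DecidableEq ι] {F : Type*} [Field F]
  (Q : QuadraticForm F (ι → F))

theorem eich_scale (u a : ι → F) (d : F) : eich Q (d • u) a = eich Q u (d • a) := by
  apply mat_ext
  intro x
  rw [eich_mulVec, eich_mulVec, eF_scale]

/-- conjugation: `A E_{u,a} = E_{Au,Aa} A` for a `Q`-preserving matrix `A`. -/
theorem eich_conj {A : Matrix ι ι F} (hA : ∀ x, Q (A *ᵥ x) = Q x) (u a : ι → F) :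
    A * eich Q u a = eich Q (A *ᵥ u) (A *ᵥ a) * A := by
  apply mat_ext
  intro x
  rw [← mulVec_mulVec, ← mulVec_mulVec, eich_mulVec, eich_mulVec]
  unfold eF
  rw [mulVec_sub, mulVec_sub, mulVec_add, mulVec_smul, mulVec_smul, mulVec_smul,
    polar_of_isom Q hA, polar_of_isom Q hA, hA]

/-- the matrix of an isometry. -/
abbrev mt (g : ↥(Cfsg.isometryGroup F (⇑Q))) : Matrix ι ι F :=
  ((g : Matrix.GeneralLinearGroup ι F) : Matrix ι ι F)

theorem mt_isom (g : ↥(Cfsg.isometryGroup F (⇑Q))) (x : ι → F) : Q (mt Q g *ᵥ x) = Q x :=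
  (mem_isometryGroup_iff (⇑Q) g.1).1 g.2 x

theorem mt_mul (g h : ↥(Cfsg.isometryGroup F (⇑Q))) : mt Q (g * h) = mt Q g * mt Q h := rfl

theorem mt_inv_mul (g : ↥(Cfsg.isometryGroup F (⇑Q))) : mt Q g⁻¹ * mt Q g = 1 := by
  rw [← mt_mul, inv_mul_cancel]
  rfl

theorem mt_mul_inv (g : ↥(Cfsg.isometryGroup F (⇑Q))) : mt Q g * mt Q g⁻¹ = 1 := by
  rw [← mt_mul, mul_inv_cancel]
  rfl

theorem mt_ext {g h : ↥(Cfsg.isometryGroup F (⇑Q))} (H : mt Q g = mt Q h) : g = h :=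
  Subtype.ext (Units.ext H)

/-- the Eichler element in the isometry group. -/
def eichG {u a : ι → F} (hu : Q u = 0) (hua : QuadraticMap.polar (⇑Q) u a = 0) :
    ↥(Cfsg.isometryGroup F (⇑Q)) := ⟨eichGL Q hu hua, eichGL_mem Q hu hua⟩

theorem mt_eichG {u a : ι → F} (hu : Q u = 0) (hua : QuadraticMap.polar (⇑Q) u a = 0) :
    mt Q (eichG Q hu hua) = eich Q u a := rfl

/-- the torus element in the isometry group. -/
def hypG {e f : ι → F} (he : Q e = 0) (hf : Q f = 0)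
    (hef : QuadraticMap.polar (⇑Q) e f = 1) {c : F} (hc : c ≠ 0) :
    ↥(Cfsg.isometryGroup F (⇑Q)) := ⟨hypGL Q he hf hef hc, hypGL_mem Q he hf hef hc⟩

theorem mt_hypG {e f : ι → F} (he : Q e = 0) (hf : Q f = 0)
    (hef : QuadraticMap.polar (⇑Q) e f = 1) {c : F} (hc : c ≠ 0) :
    mt Q (hypG Q he hf hef hc) = hyp Q e f c := rfl

/-- an Eichler element `E_{e,a}` with `a ⊥ e, f` (`e, f` a hyperbolic pair) is a commutator in
the isometry group, as soon as the field has an element `d ≠ 0, 1`. -/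
theorem eich_mem_commutator (hd : ∃ d : F, d ≠ 0 ∧ d ≠ 1) {e f a : ι → F} (he : Q e = 0)
    (hf : Q f = 0) (hef : QuadraticMap.polar (⇑Q) e f = 1)
    (hea : QuadraticMap.polar (⇑Q) e a = 0) (hfa : QuadraticMap.polar (⇑Q) f a = 0)
    (s : ↥(Cfsg.isometryGroup F (⇑Q))) (hs : mt Q s = eich Q e a) :
    s ∈ commutator ↥(Cfsg.isometryGroup F (⇑Q)) := by
  obtain ⟨d, hd0, hd1⟩ := hd
  have hd1' : d - 1 ≠ 0 := sub_ne_zero.mpr hd1
  have hea0 : QuadraticMap.polar (⇑Q) e ((d - 1)⁻¹ • a) = 0 := by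
    rw [QuadraticMap.polar_smul_right, hea, smul_zero]
  obtain ⟨h, hh⟩ : ∃ h : ↥(Cfsg.isometryGroup F (⇑Q)), h = hypG Q he hf hef hd0 := ⟨_, rfl⟩
  obtain ⟨E, hE⟩ : ∃ E : ↥(Cfsg.isometryGroup F (⇑Q)), E = eichG Q he hea0 := ⟨_, rfl⟩
  have key : h * E = s * E * h := by
    apply mt_ext
    rw [mt_mul, mt_mul, mt_mul, hs, hh, hE, mt_hypG, mt_eichG,
      eich_conj Q (fun x => hyp_isom Q he hf hef hd0 x), hyp_mulVec, hyp_mulVec, hF_e Q he hef,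
      hF_of_orth Q d, eich_scale, eich_mul Q he hea hea0]
    · congr 2
      rw [smul_smul]
      have e1 : d * (d - 1)⁻¹ = 1 + (d - 1)⁻¹ := by field_simp; ring
      rw [e1, add_smul, one_smul]
    · exact hea0
    · rw [QuadraticMap.polar_smul_right, hfa, smul_zero]
  have h2 : s = ⁅h, E⁆ := by
    rw [commutatorElement_def, key]
    group
  rw [h2, commutator_def]
  exact Subgroup.commutator_mem_commutator (Subgroup.mem_top _) (Subgroup.mem_top _)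

end gen

section frame

open Cfsg.Agent.Lib.Helper14

variable {ι : Type} [Fintype ι] [DecidableEq ι] {F : Type*} [Field F]
  (Q : QuadraticForm F (ι → F))

/-- two orthogonal hyperbolic pairs `(e1,f1)`, `(e2,f2)` and a non-singular vector `t` spanning
their orthogonal complement. -/
structure Frame5 (e1 f1 e2 f2 t : ι → F) : Prop where
  qe1 : Q e1 = 0
  qf1 : Q f1 = 0
  qe2 : Q e2 = 0
  qf2 : Q f2 = 0
  b11 : QuadraticMap.polar (⇑Q) e1 f1 = 1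
  b22 : QuadraticMap.polar (⇑Q) e2 f2 = 1
  e1e2 : QuadraticMap.polar (⇑Q) e1 e2 = 0
  e1f2 : QuadraticMap.polar (⇑Q) e1 f2 = 0
  f1e2 : QuadraticMap.polar (⇑Q) f1 e2 = 0
  f1f2 : QuadraticMap.polar (⇑Q) f1 f2 = 0
  e1t : QuadraticMap.polar (⇑Q) e1 t = 0
  f1t : QuadraticMap.polar (⇑Q) f1 t = 0
  e2t : QuadraticMap.polar (⇑Q) e2 t = 0
  f2t : QuadraticMap.polar (⇑Q) f2 t = 0
  qt : Q t ≠ 0
  span : ∀ x, QuadraticMap.polar (⇑Q) e1 x = 0 → QuadraticMap.polar (⇑Q) f1 x = 0 →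
    QuadraticMap.polar (⇑Q) e2 x = 0 → QuadraticMap.polar (⇑Q) f2 x = 0 → ∃ γ : F, x = γ • t

/-- `(u,u')` is one of the two hyperbolic pairs (in either order) and `v` is a frame vector of
the other pair, or `t`. -/
def Adm (e1 f1 e2 f2 t u u' v : ι → F) : Prop :=
  ((u = e1 ∧ u' = f1) ∨ (u = f1 ∧ u' = e1)) ∧ (v = e2 ∨ v = f2 ∨ v = t) ∨
  ((u = e2 ∧ u' = f2) ∨ (u = f2 ∧ u' = e2)) ∧ (v = e1 ∨ v = f1 ∨ v = t)

/-- the root elements `E_{u, c v}`. -/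
def rootSet (e1 f1 e2 f2 t : ι → F) : Set ↥(Cfsg.isometryGroup F (⇑Q)) :=
  {g | ∃ (u u' v : ι → F) (c : F), Adm e1 f1 e2 f2 t u u' v ∧ mt Q g = eich Q u (c • v)}

/-- the isometries that are diagonal on the frame. -/
def diagSet (e1 f1 e2 f2 t : ι → F) : Set ↥(Cfsg.isometryGroup F (⇑Q)) :=
  {g | ∃ l1 m1 l2 m2 γ : F, mt Q g *ᵥ e1 = l1 • e1 ∧ mt Q g *ᵥ f1 = m1 • f1 ∧
    mt Q g *ᵥ e2 = l2 • e2 ∧ mt Q g *ᵥ f2 = m2 • f2 ∧ mt Q g *ᵥ t = γ • t}

variable {Q} {e1 f1 e2 f2 t : ι → F}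

theorem adm_facts (hF : Frame5 Q e1 f1 e2 f2 t) {u u' v : ι → F}
    (h : Adm e1 f1 e2 f2 t u u' v) :
    Q u = 0 ∧ Q u' = 0 ∧ QuadraticMap.polar (⇑Q) u u' = 1 ∧ QuadraticMap.polar (⇑Q) u v = 0 ∧
      QuadraticMap.polar (⇑Q) u' v = 0 := by
  have a1 := hF.qe1
  have a2 := hF.qf1
  have a3 := hF.qe2
  have a4 := hF.qf2
  have b1 := hF.b11
  have b2 := hF.b22
  have b1' : QuadraticMap.polar (⇑Q) f1 e1 = 1 := by rw [QuadraticMap.polar_comm]; exact hF.b11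
  have b2' : QuadraticMap.polar (⇑Q) f2 e2 = 1 := by rw [QuadraticMap.polar_comm]; exact hF.b22
  have c1 := hF.e1e2
  have c2 := hF.e1f2
  have c3 := hF.f1e2
  have c4 := hF.f1f2
  have c1' : QuadraticMap.polar (⇑Q) e2 e1 = 0 := by rw [QuadraticMap.polar_comm]; exact hF.e1e2
  have c2' : QuadraticMap.polar (⇑Q) f2 e1 = 0 := by rw [QuadraticMap.polar_comm]; exact hF.e1f2
  have c3' : QuadraticMap.polar (⇑Q) e2 f1 = 0 := by rw [QuadraticMap.polar_comm]; exact hF.f1e2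
  have c4' : QuadraticMap.polar (⇑Q) f2 f1 = 0 := by rw [QuadraticMap.polar_comm]; exact hF.f1f2
  have d1 := hF.e1t
  have d2 := hF.f1t
  have d3 := hF.e2t
  have d4 := hF.f2t
  rcases h with ⟨hu, hv⟩ | ⟨hu, hv⟩
  · rcases hu with ⟨hu1, hu2⟩ | ⟨hu1, hu2⟩ <;> rcases hv with hv | hv | hv <;>
      rw [hu1, hu2, hv] <;> exact ⟨by assumption, by assumption, by assumption, by assumption,
        by assumption⟩
  · rcases hu with ⟨hu1, hu2⟩ | ⟨hu1, hu2⟩ <;> rcases hv with hv | hv | hv <;>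
      rw [hu1, hu2, hv] <;> exact ⟨by assumption, by assumption, by assumption, by assumption,
        by assumption⟩

theorem adm_vec {A : Matrix ι ι F} {l1 m1 l2 m2 γ : F} (h1 : A *ᵥ e1 = l1 • e1)
    (h2 : A *ᵥ f1 = m1 • f1) (h3 : A *ᵥ e2 = l2 • e2) (h4 : A *ᵥ f2 = m2 • f2)
    (h5 : A *ᵥ t = γ • t) {u u' v : ι → F} (h : Adm e1 f1 e2 f2 t u u' v) :
    ∃ l m : F, A *ᵥ u = l • u ∧ A *ᵥ v = m • v := by
  rcases h with ⟨hu, hv⟩ | ⟨hu, hv⟩
  · rcases hu with ⟨hu1, hu2⟩ | ⟨hu1, hu2⟩ <;> rcases hv with hv | hv | hv <;>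
      rw [hu1, hv] <;> exact ⟨_, _, by assumption, by assumption⟩
  · rcases hu with ⟨hu1, hu2⟩ | ⟨hu1, hu2⟩ <;> rcases hv with hv | hv | hv <;>
      rw [hu1, hv] <;> exact ⟨_, _, by assumption, by assumption⟩

theorem frame_decomp (hF : Frame5 Q e1 f1 e2 f2 t) (x : ι → F) :
    ∃ γ : F, x = QuadraticMap.polar (⇑Q) f1 x • e1 + QuadraticMap.polar (⇑Q) e1 x • f1
      + QuadraticMap.polar (⇑Q) f2 x • e2 + QuadraticMap.polar (⇑Q) e2 x • f2 + γ • t := by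
  have b1' : QuadraticMap.polar (⇑Q) f1 e1 = 1 := by rw [QuadraticMap.polar_comm]; exact hF.b11
  have b2' : QuadraticMap.polar (⇑Q) f2 e2 = 1 := by rw [QuadraticMap.polar_comm]; exact hF.b22
  have c1' : QuadraticMap.polar (⇑Q) e2 e1 = 0 := by rw [QuadraticMap.polar_comm]; exact hF.e1e2
  have c2' : QuadraticMap.polar (⇑Q) f2 e1 = 0 := by rw [QuadraticMap.polar_comm]; exact hF.e1f2
  have c3' : QuadraticMap.polar (⇑Q) e2 f1 = 0 := by rw [QuadraticMap.polar_comm]; exact hF.f1e2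
  have c4' : QuadraticMap.polar (⇑Q) f2 f1 = 0 := by rw [QuadraticMap.polar_comm]; exact hF.f1f2
  have s1 := polar_self_zero Q hF.qe1
  have s2 := polar_self_zero Q hF.qf1
  have s3 := polar_self_zero Q hF.qe2
  have s4 := polar_self_zero Q hF.qf2
  obtain ⟨y, hy⟩ : ∃ y : ι → F, y = x - (QuadraticMap.polar (⇑Q) f1 x • e1
      + QuadraticMap.polar (⇑Q) e1 x • f1 + QuadraticMap.polar (⇑Q) f2 x • e2
      + QuadraticMap.polar (⇑Q) e2 x • f2) := ⟨_, rfl⟩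
  have e : ∀ w : ι → F, QuadraticMap.polar (⇑Q) w y = QuadraticMap.polar (⇑Q) w x
      - (QuadraticMap.polar (⇑Q) f1 x * QuadraticMap.polar (⇑Q) w e1
        + QuadraticMap.polar (⇑Q) e1 x * QuadraticMap.polar (⇑Q) w f1
        + QuadraticMap.polar (⇑Q) f2 x * QuadraticMap.polar (⇑Q) w e2
        + QuadraticMap.polar (⇑Q) e2 x * QuadraticMap.polar (⇑Q) w f2) := by
    intro w
    rw [hy, QuadraticMap.polar_sub_right, QuadraticMap.polar_add_right,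
      QuadraticMap.polar_add_right, QuadraticMap.polar_add_right, QuadraticMap.polar_smul_right,
      QuadraticMap.polar_smul_right, QuadraticMap.polar_smul_right,
      QuadraticMap.polar_smul_right]
    simp only [smul_eq_mul]
  obtain ⟨γ, hγ⟩ := hF.span y
    (by rw [e, s1, hF.b11, hF.e1e2, hF.e1f2]; ring)
    (by rw [e, b1', s2, hF.f1e2, hF.f1f2]; ring)
    (by rw [e, c1', c3', s3, hF.b22]; ring)
    (by rw [e, c2', c4', b2', s4]; ring)
  refine ⟨γ, ?_⟩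
  rw [← hγ, hy]
  abel

theorem frame_ext (hF : Frame5 Q e1 f1 e2 f2 t) {A A' : Matrix ι ι F}
    (h1 : A *ᵥ e1 = A' *ᵥ e1) (h2 : A *ᵥ f1 = A' *ᵥ f1) (h3 : A *ᵥ e2 = A' *ᵥ e2)
    (h4 : A *ᵥ f2 = A' *ᵥ f2) (h5 : A *ᵥ t = A' *ᵥ t) : A = A' := by
  apply mat_ext
  intro x
  obtain ⟨γ, hx⟩ := frame_decomp hF x
  rw [hx]
  simp only [mulVec_add, mulVec_smul, h1, h2, h3, h4, h5]

theorem eich_fix {u a x : ι → F} (h1 : QuadraticMap.polar (⇑Q) u x = 0)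
    (h2 : QuadraticMap.polar (⇑Q) a x = 0) : eich Q u a *ᵥ x = x := by
  rw [eich_mulVec]
  unfold eF
  rw [h1, h2]
  module

/-- `E_{u,a}` with `u ∈ {e1,f1}` and `a ⊥ e1, f1` lies in the closure of the root elements. -/
theorem gen1 (hF : Frame5 Q e1 f1 e2 f2 t) {u u' : ι → F}
    (hu : (u = e1 ∧ u' = f1) ∨ (u = f1 ∧ u' = e1)) {a : ι → F}
    (ha1 : QuadraticMap.polar (⇑Q) e1 a = 0) (ha2 : QuadraticMap.polar (⇑Q) f1 a = 0)
    (s : ↥(Cfsg.isometryGroup F (⇑Q))) (hs : mt Q s = eich Q u a) :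
    s ∈ Subgroup.closure (rootSet Q e1 f1 e2 f2 t) := by
  obtain ⟨γ, ha⟩ := frame_decomp hF a
  rw [ha1, ha2, zero_smul, zero_smul, zero_add, zero_add] at ha
  obtain ⟨α, hα⟩ : ∃ α : F, α = QuadraticMap.polar (⇑Q) f2 a := ⟨_, rfl⟩
  obtain ⟨β, hβ⟩ : ∃ β : F, β = QuadraticMap.polar (⇑Q) e2 a := ⟨_, rfl⟩
  rw [← hα, ← hβ] at ha
  have A1 : Adm e1 f1 e2 f2 t u u' e2 := Or.inl ⟨hu, Or.inl rfl⟩
  have A2 : Adm e1 f1 e2 f2 t u u' f2 := Or.inl ⟨hu, Or.inr (Or.inl rfl)⟩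
  have A3 : Adm e1 f1 e2 f2 t u u' t := Or.inl ⟨hu, Or.inr (Or.inr rfl)⟩
  obtain ⟨qu, -, -, p1, -⟩ := adm_facts hF A1
  obtain ⟨-, -, -, p2, -⟩ := adm_facts hF A2
  obtain ⟨-, -, -, p3, -⟩ := adm_facts hF A3
  have o1 : QuadraticMap.polar (⇑Q) u (α • e2) = 0 := by
    rw [QuadraticMap.polar_smul_right, p1, smul_zero]
  have o2 : QuadraticMap.polar (⇑Q) u (β • f2) = 0 := by
    rw [QuadraticMap.polar_smul_right, p2, smul_zero]
  have o3 : QuadraticMap.polar (⇑Q) u (γ • t) = 0 := by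
    rw [QuadraticMap.polar_smul_right, p3, smul_zero]
  have o12 : QuadraticMap.polar (⇑Q) u (α • e2 + β • f2) = 0 := by
    rw [QuadraticMap.polar_add_right, o1, o2, add_zero]
  have hs' : s = eichG Q qu o1 * eichG Q qu o2 * eichG Q qu o3 := by
    apply mt_ext
    rw [hs, mt_mul, mt_mul, mt_eichG, mt_eichG, mt_eichG, eich_mul Q qu o1 o2,
      eich_mul Q qu o12 o3, ← ha]
  rw [hs']
  refine Subgroup.mul_mem _ (Subgroup.mul_mem _ ?_ ?_) ?_
  · exact Subgroup.subset_closure ⟨u, u', e2, α, A1, rfl⟩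
  · exact Subgroup.subset_closure ⟨u, u', f2, β, A2, rfl⟩
  · exact Subgroup.subset_closure ⟨u, u', t, γ, A3, rfl⟩

/-- `E_{u,a}` with `u ∈ {e2,f2}` and `a ⊥ e1, f1, e2, f2` is a root element. -/
theorem gen2 (hF : Frame5 Q e1 f1 e2 f2 t) {u u' : ι → F}
    (hu : (u = e2 ∧ u' = f2) ∨ (u = f2 ∧ u' = e2)) {a : ι → F}
    (ha1 : QuadraticMap.polar (⇑Q) e1 a = 0) (ha2 : QuadraticMap.polar (⇑Q) f1 a = 0)
    (ha3 : QuadraticMap.polar (⇑Q) e2 a = 0) (ha4 : QuadraticMap.polar (⇑Q) f2 a = 0)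
    (s : ↥(Cfsg.isometryGroup F (⇑Q))) (hs : mt Q s = eich Q u a) :
    s ∈ Subgroup.closure (rootSet Q e1 f1 e2 f2 t) := by
  obtain ⟨γ, ha⟩ := hF.span a ha1 ha2 ha3 ha4
  refine Subgroup.subset_closure ⟨u, u', t, γ, Or.inr ⟨hu, Or.inr (Or.inr rfl)⟩, ?_⟩
  rw [hs, ha]

theorem hyp1_mem_diag (hF : Frame5 Q e1 f1 e2 f2 t) {c : F} (hc : c ≠ 0) :
    hypG Q hF.qe1 hF.qf1 hF.b11 hc ∈ diagSet Q e1 f1 e2 f2 t := by
  refine ⟨c, c⁻¹, 1, 1, 1, ?_, ?_, ?_, ?_, ?_⟩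
  · rw [mt_hypG, hyp_mulVec, hF_e Q hF.qe1 hF.b11]
  · rw [mt_hypG, hyp_mulVec, hF_f Q hF.qf1 hF.b11]
  · rw [mt_hypG, hyp_mulVec, hF_of_orth Q c hF.e1e2 hF.f1e2, one_smul]
  · rw [mt_hypG, hyp_mulVec, hF_of_orth Q c hF.e1f2 hF.f1f2, one_smul]
  · rw [mt_hypG, hyp_mulVec, hF_of_orth Q c hF.e1t hF.f1t, one_smul]

theorem hyp2_mem_diag (hF : Frame5 Q e1 f1 e2 f2 t) {c : F} (hc : c ≠ 0) :
    hypG Q hF.qe2 hF.qf2 hF.b22 hc ∈ diagSet Q e1 f1 e2 f2 t := by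
  have c1' : QuadraticMap.polar (⇑Q) e2 e1 = 0 := by rw [QuadraticMap.polar_comm]; exact hF.e1e2
  have c2' : QuadraticMap.polar (⇑Q) f2 e1 = 0 := by rw [QuadraticMap.polar_comm]; exact hF.e1f2
  have c3' : QuadraticMap.polar (⇑Q) e2 f1 = 0 := by rw [QuadraticMap.polar_comm]; exact hF.f1e2
  have c4' : QuadraticMap.polar (⇑Q) f2 f1 = 0 := by rw [QuadraticMap.polar_comm]; exact hF.f1f2
  refine ⟨1, 1, c, c⁻¹, 1, ?_, ?_, ?_, ?_, ?_⟩
  · rw [mt_hypG, hyp_mulVec, hF_of_orth Q c c1' c2', one_smul]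
  · rw [mt_hypG, hyp_mulVec, hF_of_orth Q c c3' c4', one_smul]
  · rw [mt_hypG, hyp_mulVec, hF_e Q hF.qe2 hF.b22]
  · rw [mt_hypG, hyp_mulVec, hF_f Q hF.qf2 hF.b22]
  · rw [mt_hypG, hyp_mulVec, hF_of_orth Q c hF.e2t hF.f2t, one_smul]

theorem span_singular (hF : Frame5 Q e1 f1 e2 f2 t) {w : ι → F}
    (h1 : QuadraticMap.polar (⇑Q) e1 w = 0) (h2 : QuadraticMap.polar (⇑Q) f1 w = 0)
    (h3 : QuadraticMap.polar (⇑Q) e2 w = 0) (h4 : QuadraticMap.polar (⇑Q) f2 w = 0)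
    (hw : Q w = 0) : w = 0 := by
  obtain ⟨γ, hγ⟩ := hF.span w h1 h2 h3 h4
  rw [hγ, QuadraticMap.map_smul] at hw
  have : γ = 0 := by
    rcases mul_eq_zero.mp hw with h | h
    · exact mul_self_eq_zero.mp h
    · exact absurd h hF.qt
  rw [hγ, this, zero_smul]

/-- first reduction step. -/
theorem step1 (hF : Frame5 Q e1 f1 e2 f2 t) (g : ↥(Cfsg.isometryGroup F (⇑Q))) :
    ∃ r ∈ Subgroup.closure (rootSet Q e1 f1 e2 f2 t ∪ diagSet Q e1 f1 e2 f2 t),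
      mt Q (r * g) *ᵥ e1 = e1 ∧ mt Q (r * g) *ᵥ f1 = f1 := by
  have hfe : QuadraticMap.polar (⇑Q) f1 e1 = 1 := by rw [QuadraticMap.polar_comm]; exact hF.b11
  have H1 : ∀ w ∈ (⊤ : Submodule F (ι → F)), QuadraticMap.polar (⇑Q) e1 w = 0 →
      QuadraticMap.polar (⇑Q) f1 w = 0 → Q w = 0 → w ≠ 0 →
      ∃ a ∈ (⊤ : Submodule F (ι → F)), QuadraticMap.polar (⇑Q) e1 a = 0 ∧
        QuadraticMap.polar (⇑Q) f1 a = 0 ∧ QuadraticMap.polar (⇑Q) w a ≠ 0 := by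
    intro w _ h1 h2 hw hw0
    by_cases h3 : QuadraticMap.polar (⇑Q) e2 w = 0
    · by_cases h4 : QuadraticMap.polar (⇑Q) f2 w = 0
      · exact absurd (span_singular hF h1 h2 h3 h4 hw) hw0
      · exact ⟨f2, Submodule.mem_top, hF.e1f2, hF.f1f2, by
          rw [QuadraticMap.polar_comm]; exact h4⟩
    · exact ⟨e2, Submodule.mem_top, hF.e1e2, hF.f1e2, by
        rw [QuadraticMap.polar_comm]; exact h3⟩
  have H2 : ∃ a ∈ (⊤ : Submodule F (ι → F)), QuadraticMap.polar (⇑Q) e1 a = 0 ∧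
      QuadraticMap.polar (⇑Q) f1 a = 0 ∧ Q a ≠ 0 :=
    ⟨t, Submodule.mem_top, hF.e1t, hF.f1t, hF.qt⟩
  obtain ⟨a1, -, ha1e, ha1f, a2, -, ha2e, ha2f, a3, -, ha3e, ha3f, c, hc, hfix1, hfix2⟩ :=
    isom_red Q hF.qe1 hF.qf1 hF.b11 ⊤ Submodule.mem_top Submodule.mem_top H1 H2 (mt Q g)
      (mt_isom Q g) Submodule.mem_top Submodule.mem_top
  refine ⟨eichG Q hF.qe1 ha3e * hypG Q hF.qe1 hF.qf1 hF.b11 hc * eichG Q hF.qf1 ha2f
    * eichG Q hF.qe1 ha1e, ?_, hfix1, hfix2⟩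
  have hle : Subgroup.closure (rootSet Q e1 f1 e2 f2 t) ≤
      Subgroup.closure (rootSet Q e1 f1 e2 f2 t ∪ diagSet Q e1 f1 e2 f2 t) :=
    Subgroup.closure_mono Set.subset_union_left
  refine Subgroup.mul_mem _ (Subgroup.mul_mem _ (Subgroup.mul_mem _ ?_ ?_) ?_) ?_
  · exact hle (gen1 hF (Or.inl ⟨rfl, rfl⟩) ha3e ha3f _ rfl)
  · exact Subgroup.subset_closure (Or.inr (hyp1_mem_diag hF hc))
  · exact hle (gen1 hF (Or.inr ⟨rfl, rfl⟩) ha2e ha2f _ rfl)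
  · exact hle (gen1 hF (Or.inl ⟨rfl, rfl⟩) ha1e ha1f _ rfl)

/-- second reduction step. -/
theorem step2 (hF : Frame5 Q e1 f1 e2 f2 t) (g : ↥(Cfsg.isometryGroup F (⇑Q)))
    (hg1 : mt Q g *ᵥ e1 = e1) (hg2 : mt Q g *ᵥ f1 = f1) :
    ∃ r ∈ Subgroup.closure (rootSet Q e1 f1 e2 f2 t ∪ diagSet Q e1 f1 e2 f2 t),
      mt Q (r * g) *ᵥ e2 = e2 ∧ mt Q (r * g) *ᵥ f2 = f2 ∧
      mt Q (r * g) *ᵥ e1 = e1 ∧ mt Q (r * g) *ᵥ f1 = f1 := by
  have c1' : QuadraticMap.polar (⇑Q) e2 e1 = 0 := by rw [QuadraticMap.polar_comm]; exact hF.e1e2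
  have c2' : QuadraticMap.polar (⇑Q) f2 e1 = 0 := by rw [QuadraticMap.polar_comm]; exact hF.e1f2
  have c3' : QuadraticMap.polar (⇑Q) e2 f1 = 0 := by rw [QuadraticMap.polar_comm]; exact hF.f1e2
  have c4' : QuadraticMap.polar (⇑Q) f2 f1 = 0 := by rw [QuadraticMap.polar_comm]; exact hF.f1f2
  obtain ⟨M, hM⟩ : ∃ M : Submodule F (ι → F), M = LinearMap.ker (QuadraticMap.polarBilin Q e1) ⊓
      LinearMap.ker (QuadraticMap.polarBilin Q f1) := ⟨_, rfl⟩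
  have memM : ∀ x : ι → F, x ∈ M ↔ QuadraticMap.polar (⇑Q) e1 x = 0 ∧
      QuadraticMap.polar (⇑Q) f1 x = 0 := by
    intro x
    rw [hM, Submodule.mem_inf, LinearMap.mem_ker, LinearMap.mem_ker,
      QuadraticMap.polarBilin_apply_apply, QuadraticMap.polarBilin_apply_apply]
  have hgB := polar_of_isom Q (mt_isom Q g)
  have H1 : ∀ w ∈ M, QuadraticMap.polar (⇑Q) e2 w = 0 →
      QuadraticMap.polar (⇑Q) f2 w = 0 → Q w = 0 → w ≠ 0 →
      ∃ a ∈ M, QuadraticMap.polar (⇑Q) e2 a = 0 ∧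
        QuadraticMap.polar (⇑Q) f2 a = 0 ∧ QuadraticMap.polar (⇑Q) w a ≠ 0 := by
    intro w hwM h3 h4 hw hw0
    obtain ⟨h1, h2⟩ := (memM w).1 hwM
    exact absurd (span_singular hF h1 h2 h3 h4 hw) hw0
  have H2 : ∃ a ∈ M, QuadraticMap.polar (⇑Q) e2 a = 0 ∧
      QuadraticMap.polar (⇑Q) f2 a = 0 ∧ Q a ≠ 0 :=
    ⟨t, (memM t).2 ⟨hF.e1t, hF.f1t⟩, hF.e2t, hF.f2t, hF.qt⟩
  have hge2 : mt Q g *ᵥ e2 ∈ M := by
    rw [memM]
    constructor
    · have := hgB e1 e2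
      rw [hg1] at this
      rw [this, hF.e1e2]
    · have := hgB f1 e2
      rw [hg2] at this
      rw [this, hF.f1e2]
  have hgf2 : mt Q g *ᵥ f2 ∈ M := by
    rw [memM]
    constructor
    · have := hgB e1 f2
      rw [hg1] at this
      rw [this, hF.e1f2]
    · have := hgB f1 f2
      rw [hg2] at this
      rw [this, hF.f1f2]
  obtain ⟨a1, ha1M, ha1e, ha1f, a2, ha2M, ha2e, ha2f, a3, ha3M, ha3e, ha3f, c, hc, hfix1,
      hfix2⟩ :=
    isom_red Q hF.qe2 hF.qf2 hF.b22 M ((memM e2).2 ⟨hF.e1e2, hF.f1e2⟩)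
      ((memM f2).2 ⟨hF.e1f2, hF.f1f2⟩) H1 H2 (mt Q g) (mt_isom Q g) hge2 hgf2
  obtain ⟨p1, q1⟩ := (memM a1).1 ha1M
  obtain ⟨p2, q2⟩ := (memM a2).1 ha2M
  obtain ⟨p3, q3⟩ := (memM a3).1 ha3M
  have fixv : ∀ x : ι → F, QuadraticMap.polar (⇑Q) e2 x = 0 → QuadraticMap.polar (⇑Q) f2 x = 0 →
      QuadraticMap.polar (⇑Q) a1 x = 0 → QuadraticMap.polar (⇑Q) a2 x = 0 →
      QuadraticMap.polar (⇑Q) a3 x = 0 → mt Q g *ᵥ x = x →
      (eich Q e2 a3 * hyp Q e2 f2 c * eich Q f2 a2 * eich Q e2 a1 * mt Q g) *ᵥ x = x := by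
    intro x h1 h2 h3 h4 h5 h6
    rw [← mulVec_mulVec, h6, ← mulVec_mulVec, eich_fix h1 h3, ← mulVec_mulVec, eich_fix h2 h4,
      ← mulVec_mulVec, hyp_mulVec, hF_of_orth Q c h1 h2, eich_fix h1 h5]
  refine ⟨eichG Q hF.qe2 ha3e * hypG Q hF.qe2 hF.qf2 hF.b22 hc * eichG Q hF.qf2 ha2f
    * eichG Q hF.qe2 ha1e, ?_, hfix1, hfix2, ?_, ?_⟩
  · have hle : Subgroup.closure (rootSet Q e1 f1 e2 f2 t) ≤
        Subgroup.closure (rootSet Q e1 f1 e2 f2 t ∪ diagSet Q e1 f1 e2 f2 t) :=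
      Subgroup.closure_mono Set.subset_union_left
    refine Subgroup.mul_mem _ (Subgroup.mul_mem _ (Subgroup.mul_mem _ ?_ ?_) ?_) ?_
    · exact hle (gen2 hF (Or.inl ⟨rfl, rfl⟩) p3 q3 ha3e ha3f _ rfl)
    · exact Subgroup.subset_closure (Or.inr (hyp2_mem_diag hF hc))
    · exact hle (gen2 hF (Or.inr ⟨rfl, rfl⟩) p2 q2 ha2e ha2f _ rfl)
    · exact hle (gen2 hF (Or.inl ⟨rfl, rfl⟩) p1 q1 ha1e ha1f _ rfl)
  · exact fixv e1 c1' c2' (by rw [QuadraticMap.polar_comm]; exact p1)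
      (by rw [QuadraticMap.polar_comm]; exact p2) (by rw [QuadraticMap.polar_comm]; exact p3) hg1
  · exact fixv f1 c3' c4' (by rw [QuadraticMap.polar_comm]; exact q1)
      (by rw [QuadraticMap.polar_comm]; exact q2) (by rw [QuadraticMap.polar_comm]; exact q3) hg2

/-- the isometry group is generated by the root elements and the frame-diagonal isometries. -/
theorem gen_top (hF : Frame5 Q e1 f1 e2 f2 t) :
    Subgroup.closure (rootSet Q e1 f1 e2 f2 t ∪ diagSet Q e1 f1 e2 f2 t) = ⊤ := by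
  rw [eq_top_iff]
  intro g _
  obtain ⟨r1, hr1, h11, h12⟩ := step1 hF g
  obtain ⟨r2, hr2, h21, h22, h23, h24⟩ := step2 hF (r1 * g) h11 h12
  have hB := polar_of_isom Q (mt_isom Q (r2 * (r1 * g)))
  obtain ⟨γ, hγ⟩ := hF.span (mt Q (r2 * (r1 * g)) *ᵥ t)
    (by have := hB e1 t; rw [h23] at this; rw [this, hF.e1t])
    (by have := hB f1 t; rw [h24] at this; rw [this, hF.f1t])
    (by have := hB e2 t; rw [h21] at this; rw [this, hF.e2t])
    (by have := hB f2 t; rw [h22] at this; rw [this, hF.f2t])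
  have hd : r2 * (r1 * g) ∈ diagSet Q e1 f1 e2 f2 t :=
    ⟨1, 1, 1, 1, γ, by rw [h23, one_smul], by rw [h24, one_smul], by rw [h21, one_smul],
      by rw [h22, one_smul], hγ⟩
  have e : g = r1⁻¹ * (r2⁻¹ * (r2 * (r1 * g))) := by group
  rw [e]
  exact Subgroup.mul_mem _ (Subgroup.inv_mem _ hr1)
    (Subgroup.mul_mem _ (Subgroup.inv_mem _ hr2) (Subgroup.subset_closure (Or.inr hd)))

theorem inv_eigen (g : ↥(Cfsg.isometryGroup F (⇑Q))) {w : ι → F} (hw : w ≠ 0) {l : F}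
    (h : mt Q g *ᵥ w = l • w) : mt Q g⁻¹ *ᵥ w = l⁻¹ • w := by
  have h1 : mt Q g⁻¹ *ᵥ (mt Q g *ᵥ w) = w := by rw [mulVec_mulVec, mt_inv_mul, one_mulVec]
  rw [h, mulVec_smul] at h1
  have hl : l ≠ 0 := by
    rintro rfl
    rw [zero_smul] at h1
    exact hw h1.symm
  calc mt Q g⁻¹ *ᵥ w = l⁻¹ • (l • mt Q g⁻¹ *ᵥ w) := by
        rw [smul_smul, inv_mul_cancel₀ hl, one_smul]
    _ = l⁻¹ • w := by rw [h1]

theorem diag_inv (hF : Frame5 Q e1 f1 e2 f2 t) :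
    ∀ g ∈ diagSet Q e1 f1 e2 f2 t, g⁻¹ ∈ diagSet Q e1 f1 e2 f2 t := by
  rintro g ⟨l1, m1, l2, m2, γ, h1, h2, h3, h4, h5⟩
  have n1 : e1 ≠ 0 := by
    rintro rfl
    have := hF.b11
    rw [QuadraticMap.polar_zero_left] at this
    exact zero_ne_one this
  have n2 : f1 ≠ 0 := by
    rintro rfl
    have := hF.b11
    rw [QuadraticMap.polar_zero_right] at this
    exact zero_ne_one this
  have n3 : e2 ≠ 0 := by
    rintro rfl
    have := hF.b22
    rw [QuadraticMap.polar_zero_left] at this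
    exact zero_ne_one this
  have n4 : f2 ≠ 0 := by
    rintro rfl
    have := hF.b22
    rw [QuadraticMap.polar_zero_right] at this
    exact zero_ne_one this
  have n5 : t ≠ 0 := by
    rintro rfl
    exact hF.qt (map_zero Q)
  exact ⟨l1⁻¹, m1⁻¹, l2⁻¹, m2⁻¹, γ⁻¹, inv_eigen g n1 h1, inv_eigen g n2 h2, inv_eigen g n3 h3,
    inv_eigen g n4 h4, inv_eigen g n5 h5⟩

theorem diag_comm (hF : Frame5 Q e1 f1 e2 f2 t) :
    ∀ g ∈ diagSet Q e1 f1 e2 f2 t, ∀ g' ∈ diagSet Q e1 f1 e2 f2 t, g * g' = g' * g := by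
  rintro g ⟨l1, m1, l2, m2, γ, h1, h2, h3, h4, h5⟩ g' ⟨l1', m1', l2', m2', γ', h1', h2', h3',
    h4', h5'⟩
  apply mt_ext
  rw [mt_mul, mt_mul]
  apply frame_ext hF
  · rw [← mulVec_mulVec, ← mulVec_mulVec, h1', h1, mulVec_smul, mulVec_smul, h1, h1', smul_comm]
  · rw [← mulVec_mulVec, ← mulVec_mulVec, h2', h2, mulVec_smul, mulVec_smul, h2, h2', smul_comm]
  · rw [← mulVec_mulVec, ← mulVec_mulVec, h3', h3, mulVec_smul, mulVec_smul, h3, h3', smul_comm]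
  · rw [← mulVec_mulVec, ← mulVec_mulVec, h4', h4, mulVec_smul, mulVec_smul, h4, h4', smul_comm]
  · rw [← mulVec_mulVec, ← mulVec_mulVec, h5', h5, mulVec_smul, mulVec_smul, h5, h5', smul_comm]

theorem diag_conj :
    ∀ g ∈ diagSet Q e1 f1 e2 f2 t, ∀ s ∈ rootSet Q e1 f1 e2 f2 t,
      g * s * g⁻¹ ∈ Subgroup.closure (rootSet Q e1 f1 e2 f2 t) := by
  rintro g ⟨l1, m1, l2, m2, γ, h1, h2, h3, h4, h5⟩ s ⟨u, u', v, c, hA, hs⟩
  obtain ⟨l, m, hu, hv⟩ := adm_vec h1 h2 h3 h4 h5 hA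
  refine Subgroup.subset_closure ⟨u, u', v, l * c * m, hA, ?_⟩
  rw [mt_mul, mt_mul, hs, eich_conj Q (mt_isom Q g), Matrix.mul_assoc, mt_mul_inv, Matrix.mul_one,
    hu, mulVec_smul, hv, eich_scale, smul_smul, smul_smul]

theorem root_comm (hd : ∃ d : F, d ≠ 0 ∧ d ≠ 1) (hF : Frame5 Q e1 f1 e2 f2 t) :
    ∀ s ∈ rootSet Q e1 f1 e2 f2 t, s ∈ commutator ↥(Cfsg.isometryGroup F (⇑Q)) := by
  rintro s ⟨u, u', v, c, hA, hs⟩
  obtain ⟨qu, qu', b, o1, o2⟩ := adm_facts hF hA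
  exact eich_mem_commutator Q hd qu qu' b
    (by rw [QuadraticMap.polar_smul_right, o1, smul_zero])
    (by rw [QuadraticMap.polar_smul_right, o2, smul_zero]) s hs

/-- MAIN (abstract frame): `Ω(Q)` is generated by the root elements. -/
theorem omega_frame5 (hd : ∃ d : F, d ≠ 0 ∧ d ≠ 1) (hF : Frame5 Q e1 f1 e2 f2 t) :
    Cfsg.Omega F (⇑Q) = Subgroup.closure (rootSet Q e1 f1 e2 f2 t) :=
  commutator_eq_closure_of (rootSet Q e1 f1 e2 f2 t) (diagSet Q e1 f1 e2 f2 t) (gen_top hF)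
    (diag_inv hF) diag_conj (diag_comm hF) (root_comm hd hF)

end frame

/-! ### the concrete form `x₀² + x₁y₁ + x₂y₂` -/

section concrete

open Cfsg.Agent.Lib.Helper14

/-- the Eichler matrix of a bare quadratic function. -/
def eichFn {ι : Type} [Fintype ι] [DecidableEq ι] {F : Type*} [Field F] (q : (ι → F) → F)
    (u a : ι → F) : Matrix ι ι F :=
  1 + vecMulVec u (Cfsg.polarVec q a) - vecMulVec a (Cfsg.polarVec q u)
    - q a • vecMulVec u (Cfsg.polarVec q u)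

theorem eich_eq_eichFn {ι : Type} [Fintype ι] [DecidableEq ι] {F : Type*} [Field F]
    (Q : QuadraticForm F (ι → F)) (u a : ι → F) : eich Q u a = eichFn (⇑Q) u a := rfl

/-- transfer of `omega_frame5` to a bare quadratic function `q = ⇑Q`. -/
theorem omega_frame5_fn {ι : Type} [Fintype ι] [DecidableEq ι] {F : Type*} [Field F]
    (hd : ∃ d : F, d ≠ 0 ∧ d ≠ 1) (Q : QuadraticForm F (ι → F)) (q : (ι → F) → F)
    (hq : ⇑Q = q) {e1 f1 e2 f2 t : ι → F} (hF : Frame5 Q e1 f1 e2 f2 t) :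
    Cfsg.Omega F q = Subgroup.closure {g : ↥(Cfsg.isometryGroup F q) |
      ∃ (u u' v : ι → F) (c : F), Adm e1 f1 e2 f2 t u u' v ∧
        ((g : Matrix.GeneralLinearGroup ι F) : Matrix ι ι F) = eichFn q u (c • v)} := by
  subst hq
  exact omega_frame5 hd hF

variable (F : Type*) [Field F]

/-- the frame vectors of `F⁵`. -/
abbrev v0 : Unit ⊕ (Fin 2 ⊕ Fin 2) → F := Pi.single (Sum.inl ()) 1
abbrev ve (i : Fin 2) : Unit ⊕ (Fin 2 ⊕ Fin 2) → F := Pi.single (Sum.inr (Sum.inl i)) 1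
abbrev vf (i : Fin 2) : Unit ⊕ (Fin 2 ⊕ Fin 2) → F := Pi.single (Sum.inr (Sum.inr i)) 1

theorem frame5_odd : Frame5 (oddQF 2 F) (ve F 0) (vf F 0) (ve F 1) (vf F 1) (v0 F) := by
  have hc := oddQF_coe 2 F
  have q : ∀ x, (oddQF 2 F) x = Cfsg.quadFormOdd 2 F x := fun x => congrFun hc x
  refine ⟨?_, ?_, ?_, ?_, ?_, ?_, ?_, ?_, ?_, ?_, ?_, ?_, ?_, ?_, ?_, ?_⟩
  · rw [q]; simp [Cfsg.quadFormOdd]
  · rw [q]; simp [Cfsg.quadFormOdd]
  · rw [q]; simp [Cfsg.quadFormOdd]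
  · rw [q]; simp [Cfsg.quadFormOdd]
  · rw [hc, odd_polar_inl]; simp
  · rw [hc, odd_polar_inl]; simp
  · rw [hc, odd_polar_inl]; simp
  · rw [hc, odd_polar_inl]; simp
  · rw [hc, odd_polar_inr]; simp
  · rw [hc, odd_polar_inr]; simp
  · rw [hc, odd_polar_inl]; simp
  · rw [hc, odd_polar_inr]; simp
  · rw [hc, odd_polar_inl]; simp
  · rw [hc, odd_polar_inr]; simp
  · rw [q]; simp [Cfsg.quadFormOdd]
  · intro x h1 h2 h3 h4
    rw [hc, odd_polar_inl] at h1 h3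
    rw [hc, odd_polar_inr] at h2 h4
    refine ⟨x (Sum.inl ()), ?_⟩
    funext k
    rcases k with ⟨⟩ | k | k
    · simp
    · fin_cases k
      · simpa using h2
      · simpa using h4
    · fin_cases k
      · simpa using h1
      · simpa using h3

/-- the root elements of `Ω₅(F)`: `E_{u, c v}` with `u ∈ {e_i, f_i}` and `v ∈ {e_j, f_j}`
(`j ≠ i`; long roots) or `v = t` (short roots). -/
def rootSet5 : Set ↥(Cfsg.isometryGroup F (Cfsg.quadFormOdd 2 F)) :=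
  {g | ∃ (u u' v : Unit ⊕ (Fin 2 ⊕ Fin 2) → F) (c : F),
    Adm (ve F 0) (vf F 0) (ve F 1) (vf F 1) (v0 F) u u' v ∧
    ((g : Matrix.GeneralLinearGroup (Unit ⊕ (Fin 2 ⊕ Fin 2)) F) :
      Matrix (Unit ⊕ (Fin 2 ⊕ Fin 2)) (Unit ⊕ (Fin 2 ⊕ Fin 2)) F) =
      eichFn (Cfsg.quadFormOdd 2 F) u (c • v)}

/-- [OMEGA-B2] `Ω(x₀² + x₁y₁ + x₂y₂)` is generated by the root elements, over every field
with more than two elements (all characteristics). -/
theorem omega_odd5 (hd : ∃ d : F, d ≠ 0 ∧ d ≠ 1) :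
    Cfsg.Omega F (Cfsg.quadFormOdd 2 F) = Subgroup.closure (rootSet5 F) :=
  omega_frame5_fn hd (oddQF 2 F) (Cfsg.quadFormOdd 2 F) (oddQF_coe 2 F) (frame5_odd F)

/-- every subgroup containing the root elements contains `Ω`. -/
theorem omega_le_of_roots (hd : ∃ d : F, d ≠ 0 ∧ d ≠ 1)
    (K : Subgroup ↥(Cfsg.isometryGroup F (Cfsg.quadFormOdd 2 F))) (hK : rootSet5 F ⊆ K) :
    Cfsg.Omega F (Cfsg.quadFormOdd 2 F) ≤ K := by
  rw [omega_odd5 F hd, Subgroup.closure_le]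
  exact hK

/-- the root elements lie in `Ω`. -/
theorem root_mem_omega (hd : ∃ d : F, d ≠ 0 ∧ d ≠ 1) :
    rootSet5 F ⊆ Cfsg.Omega F (Cfsg.quadFormOdd 2 F) := by
  rw [omega_odd5 F hd]
  exact Subgroup.subset_closure

end concrete

end Cfsg.Agent.Lib.Helper43.CHO
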