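import Mathlib
import Cfsg.Agent.Lib.Helper43.CHO.OmegaOdd
import Cfsg.Agent.Lib.Helper99.CHO.Defs2

/-!
# CHO (S1083): package [GEN-B2]

`Ω(x₀² + x₁y₁ + x₂y₂) = R`, the group generated by the eight root families `EB2 K r t` of the
interface `Helper99.CHO.Defs`, over every field with more than two elements.  Route: `omega_odd5`
(Eichler elements generate `Ω`) and the twelve matrix identities
`eichFn Q u (c • v) = EB2mat K r (± c)`.
-/

set_option autoImplicit false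

namespace Cfsg.Agent.Lib.Helper43.CHO

open Matrix
open Cfsg.Agent.Lib.Helper14
open Cfsg.Agent.Lib.Helper99.CHO

universe u

section genB2

variable (K : Type u) [Field K]

/-! ### the twelve matrix identities -/

theorem eichFn_e1_e2 (c : K) :
    eichFn (Cfsg.quadFormOdd 2 K) (ve K 0) (c • ve K 1) = EB2mat K 7 c := by
  ext i j
  rcases i with ⟨⟩ | i | i <;> rcases j with ⟨⟩ | j | j <;>
    (try fin_cases i) <;> (try fin_cases j) <;>
    simp [EB2mat, NB2, MB2, tab3, nListB2, mListB2, ix5, eichFn, Cfsg.polarVec,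
      QuadraticMap.polar, Cfsg.quadFormOdd, vecMulVec_apply, Matrix.one_apply,
      Fin.sum_univ_two, Pi.single_apply] <;> (try ring)

theorem eichFn_e1_f2 (c : K) :
    eichFn (Cfsg.quadFormOdd 2 K) (ve K 0) (c • vf K 1) = EB2mat K 4 c := by
  ext i j
  rcases i with ⟨⟩ | i | i <;> rcases j with ⟨⟩ | j | j <;>
    (try fin_cases i) <;> (try fin_cases j) <;>
    simp [EB2mat, NB2, MB2, tab3, nListB2, mListB2, ix5, eichFn, Cfsg.polarVec,
      QuadraticMap.polar, Cfsg.quadFormOdd, vecMulVec_apply, Matrix.one_apply,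
      Fin.sum_univ_two, Pi.single_apply] <;> (try ring)

theorem eichFn_e1_t (c : K) :
    eichFn (Cfsg.quadFormOdd 2 K) (ve K 0) (c • v0 K) = EB2mat K 6 c := by
  ext i j
  rcases i with ⟨⟩ | i | i <;> rcases j with ⟨⟩ | j | j <;>
    (try fin_cases i) <;> (try fin_cases j) <;>
    simp [EB2mat, NB2, MB2, tab3, nListB2, mListB2, ix5, eichFn, Cfsg.polarVec,
      QuadraticMap.polar, Cfsg.quadFormOdd, vecMulVec_apply, Matrix.one_apply,
      Fin.sum_univ_two, Pi.single_apply] <;> (try ring)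

theorem eichFn_f1_e2 (c : K) :
    eichFn (Cfsg.quadFormOdd 2 K) (vf K 0) (c • ve K 1) = EB2mat K 3 (-c) := by
  ext i j
  rcases i with ⟨⟩ | i | i <;> rcases j with ⟨⟩ | j | j <;>
    (try fin_cases i) <;> (try fin_cases j) <;>
    simp [EB2mat, NB2, MB2, tab3, nListB2, mListB2, ix5, eichFn, Cfsg.polarVec,
      QuadraticMap.polar, Cfsg.quadFormOdd, vecMulVec_apply, Matrix.one_apply,
      Fin.sum_univ_two, Pi.single_apply] <;> (try ring)

theorem eichFn_f1_f2 (c : K) :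
    eichFn (Cfsg.quadFormOdd 2 K) (vf K 0) (c • vf K 1) = EB2mat K 0 (-c) := by
  ext i j
  rcases i with ⟨⟩ | i | i <;> rcases j with ⟨⟩ | j | j <;>
    (try fin_cases i) <;> (try fin_cases j) <;>
    simp [EB2mat, NB2, MB2, tab3, nListB2, mListB2, ix5, eichFn, Cfsg.polarVec,
      QuadraticMap.polar, Cfsg.quadFormOdd, vecMulVec_apply, Matrix.one_apply,
      Fin.sum_univ_two, Pi.single_apply] <;> (try ring)

theorem eichFn_f1_t (c : K) :
    eichFn (Cfsg.quadFormOdd 2 K) (vf K 0) (c • v0 K) = EB2mat K 1 (-c) := by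
  ext i j
  rcases i with ⟨⟩ | i | i <;> rcases j with ⟨⟩ | j | j <;>
    (try fin_cases i) <;> (try fin_cases j) <;>
    simp [EB2mat, NB2, MB2, tab3, nListB2, mListB2, ix5, eichFn, Cfsg.polarVec,
      QuadraticMap.polar, Cfsg.quadFormOdd, vecMulVec_apply, Matrix.one_apply,
      Fin.sum_univ_two, Pi.single_apply] <;> (try ring)

theorem eichFn_e2_e1 (c : K) :
    eichFn (Cfsg.quadFormOdd 2 K) (ve K 1) (c • ve K 0) = EB2mat K 7 (-c) := by
  ext i j
  rcases i with ⟨⟩ | i | i <;> rcases j with ⟨⟩ | j | j <;>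
    (try fin_cases i) <;> (try fin_cases j) <;>
    simp [EB2mat, NB2, MB2, tab3, nListB2, mListB2, ix5, eichFn, Cfsg.polarVec,
      QuadraticMap.polar, Cfsg.quadFormOdd, vecMulVec_apply, Matrix.one_apply,
      Fin.sum_univ_two, Pi.single_apply] <;> (try ring)

theorem eichFn_e2_f1 (c : K) :
    eichFn (Cfsg.quadFormOdd 2 K) (ve K 1) (c • vf K 0) = EB2mat K 3 c := by
  ext i j
  rcases i with ⟨⟩ | i | i <;> rcases j with ⟨⟩ | j | j <;>
    (try fin_cases i) <;> (try fin_cases j) <;>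
    simp [EB2mat, NB2, MB2, tab3, nListB2, mListB2, ix5, eichFn, Cfsg.polarVec,
      QuadraticMap.polar, Cfsg.quadFormOdd, vecMulVec_apply, Matrix.one_apply,
      Fin.sum_univ_two, Pi.single_apply] <;> (try ring)

theorem eichFn_e2_t (c : K) :
    eichFn (Cfsg.quadFormOdd 2 K) (ve K 1) (c • v0 K) = EB2mat K 5 c := by
  ext i j
  rcases i with ⟨⟩ | i | i <;> rcases j with ⟨⟩ | j | j <;>
    (try fin_cases i) <;> (try fin_cases j) <;>
    simp [EB2mat, NB2, MB2, tab3, nListB2, mListB2, ix5, eichFn, Cfsg.polarVec,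
      QuadraticMap.polar, Cfsg.quadFormOdd, vecMulVec_apply, Matrix.one_apply,
      Fin.sum_univ_two, Pi.single_apply] <;> (try ring)

theorem eichFn_f2_e1 (c : K) :
    eichFn (Cfsg.quadFormOdd 2 K) (vf K 1) (c • ve K 0) = EB2mat K 4 (-c) := by
  ext i j
  rcases i with ⟨⟩ | i | i <;> rcases j with ⟨⟩ | j | j <;>
    (try fin_cases i) <;> (try fin_cases j) <;>
    simp [EB2mat, NB2, MB2, tab3, nListB2, mListB2, ix5, eichFn, Cfsg.polarVec,
      QuadraticMap.polar, Cfsg.quadFormOdd, vecMulVec_apply, Matrix.one_apply,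
      Fin.sum_univ_two, Pi.single_apply] <;> (try ring)

theorem eichFn_f2_f1 (c : K) :
    eichFn (Cfsg.quadFormOdd 2 K) (vf K 1) (c • vf K 0) = EB2mat K 0 c := by
  ext i j
  rcases i with ⟨⟩ | i | i <;> rcases j with ⟨⟩ | j | j <;>
    (try fin_cases i) <;> (try fin_cases j) <;>
    simp [EB2mat, NB2, MB2, tab3, nListB2, mListB2, ix5, eichFn, Cfsg.polarVec,
      QuadraticMap.polar, Cfsg.quadFormOdd, vecMulVec_apply, Matrix.one_apply,
      Fin.sum_univ_two, Pi.single_apply] <;> (try ring)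

theorem eichFn_f2_t (c : K) :
    eichFn (Cfsg.quadFormOdd 2 K) (vf K 1) (c • v0 K) = EB2mat K 2 (-c) := by
  ext i j
  rcases i with ⟨⟩ | i | i <;> rcases j with ⟨⟩ | j | j <;>
    (try fin_cases i) <;> (try fin_cases j) <;>
    simp [EB2mat, NB2, MB2, tab3, nListB2, mListB2, ix5, eichFn, Cfsg.polarVec,
      QuadraticMap.polar, Cfsg.quadFormOdd, vecMulVec_apply, Matrix.one_apply,
      Fin.sum_univ_two, Pi.single_apply] <;> (try ring)

/-! ### Eichler elements as isometries -/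

/-- an Eichler matrix of a bare quadratic function (the function of a `QuadraticForm`) is the
matrix of an element of the isometry group. -/
theorem exists_isom_eichFn {ι : Type} [Fintype ι] [DecidableEq ι] {F : Type*} [Field F]
    (Q : QuadraticForm F (ι → F)) (q : (ι → F) → F) (hq : ⇑Q = q) {x a : ι → F}
    (hx : q x = 0) (hxa : QuadraticMap.polar q x a = 0) :
    ∃ g : ↥(Cfsg.isometryGroup F q),
      ((g : Matrix.GeneralLinearGroup ι F) : Matrix ι ι F) = eichFn q x a := by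
  subst hq
  exact ⟨eichG Q hx hxa, mt_eichG Q hx hxa⟩

/-- the Eichler matrices of the twelve admissible families are matrices of elements of
`rootSet5`. -/
theorem exists_root5 {x x' y : Unit ⊕ (Fin 2 ⊕ Fin 2) → K}
    (hA : Adm (ve K 0) (vf K 0) (ve K 1) (vf K 1) (v0 K) x x' y) (c : K) :
    ∃ g ∈ rootSet5 K, ((g : Matrix.GeneralLinearGroup (Unit ⊕ (Fin 2 ⊕ Fin 2)) K) :
      Matrix (Unit ⊕ (Fin 2 ⊕ Fin 2)) (Unit ⊕ (Fin 2 ⊕ Fin 2)) K) =
      eichFn (Cfsg.quadFormOdd 2 K) x (c • y) := by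
  have hq := oddQF_coe 2 K
  have hfacts := adm_facts (frame5_odd K) hA
  have hx : Cfsg.quadFormOdd 2 K x = 0 := by
    rw [← hq]; exact hfacts.1
  have hxa : QuadraticMap.polar (Cfsg.quadFormOdd 2 K) x (c • y) = 0 := by
    rw [← hq, QuadraticMap.polar_smul_right]
    have := hfacts.2.2.2.1
    rw [this, smul_zero]
  obtain ⟨g, hg⟩ := exists_isom_eichFn (oddQF 2 K) (Cfsg.quadFormOdd 2 K) hq hx hxa
  exact ⟨g, ⟨x, x', y, c, hA, hg⟩, hg⟩

/-- every root element of `rootSet5` is one of the `EB2mat K r t`. -/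
theorem root5_eq_EB2mat {g : ↥(Cfsg.isometryGroup K (Cfsg.quadFormOdd 2 K))}
    (hg : g ∈ rootSet5 K) :
    ∃ r : ℕ, r < 8 ∧ ∃ t : K, ((g : Matrix.GeneralLinearGroup (Unit ⊕ (Fin 2 ⊕ Fin 2)) K) :
      Matrix (Unit ⊕ (Fin 2 ⊕ Fin 2)) (Unit ⊕ (Fin 2 ⊕ Fin 2)) K) = EB2mat K r t := by
  obtain ⟨x, x', y, c, hA, hg⟩ := hg
  rcases hA with ⟨hu, hv⟩ | ⟨hu, hv⟩
  · rcases hu with ⟨hu1, hu2⟩ | ⟨hu1, hu2⟩ <;> rcases hv with hv | hv | hv
    · exact ⟨7, by norm_num, c, by rw [hg, hu1, hv, eichFn_e1_e2]⟩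
    · exact ⟨4, by norm_num, c, by rw [hg, hu1, hv, eichFn_e1_f2]⟩
    · exact ⟨6, by norm_num, c, by rw [hg, hu1, hv, eichFn_e1_t]⟩
    · exact ⟨3, by norm_num, -c, by rw [hg, hu1, hv, eichFn_f1_e2]⟩
    · exact ⟨0, by norm_num, -c, by rw [hg, hu1, hv, eichFn_f1_f2]⟩
    · exact ⟨1, by norm_num, -c, by rw [hg, hu1, hv, eichFn_f1_t]⟩
  · rcases hu with ⟨hu1, hu2⟩ | ⟨hu1, hu2⟩ <;> rcases hv with hv | hv | hv
    · exact ⟨7, by norm_num, -c, by rw [hg, hu1, hv, eichFn_e2_e1]⟩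
    · exact ⟨3, by norm_num, c, by rw [hg, hu1, hv, eichFn_e2_f1]⟩
    · exact ⟨5, by norm_num, c, by rw [hg, hu1, hv, eichFn_e2_t]⟩
    · exact ⟨4, by norm_num, -c, by rw [hg, hu1, hv, eichFn_f2_e1]⟩
    · exact ⟨0, by norm_num, c, by rw [hg, hu1, hv, eichFn_f2_f1]⟩
    · exact ⟨2, by norm_num, -c, by rw [hg, hu1, hv, eichFn_f2_t]⟩

/-- every `EB2mat K r t` (`r < 8`) is the matrix of an element of `rootSet5`. -/
theorem EB2mat_eq_root5 (r : ℕ) (hr : r < 8) (t : K) :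
    ∃ g ∈ rootSet5 K, ((g : Matrix.GeneralLinearGroup (Unit ⊕ (Fin 2 ⊕ Fin 2)) K) :
      Matrix (Unit ⊕ (Fin 2 ⊕ Fin 2)) (Unit ⊕ (Fin 2 ⊕ Fin 2)) K) = EB2mat K r t := by
  interval_cases r
  · obtain ⟨g, hg, h⟩ := exists_root5 K (x := vf K 1) (x' := ve K 1) (y := vf K 0)
      (Or.inr ⟨Or.inr ⟨rfl, rfl⟩, Or.inr (Or.inl rfl)⟩) t
    exact ⟨g, hg, by rw [h, eichFn_f2_f1]⟩
  · obtain ⟨g, hg, h⟩ := exists_root5 K (x := vf K 0) (x' := ve K 0) (y := v0 K)
      (Or.inl ⟨Or.inr ⟨rfl, rfl⟩, Or.inr (Or.inr rfl)⟩) (-t)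
    exact ⟨g, hg, by rw [h, eichFn_f1_t, neg_neg]⟩
  · obtain ⟨g, hg, h⟩ := exists_root5 K (x := vf K 1) (x' := ve K 1) (y := v0 K)
      (Or.inr ⟨Or.inr ⟨rfl, rfl⟩, Or.inr (Or.inr rfl)⟩) (-t)
    exact ⟨g, hg, by rw [h, eichFn_f2_t, neg_neg]⟩
  · obtain ⟨g, hg, h⟩ := exists_root5 K (x := ve K 1) (x' := vf K 1) (y := vf K 0)
      (Or.inr ⟨Or.inl ⟨rfl, rfl⟩, Or.inr (Or.inl rfl)⟩) t
    exact ⟨g, hg, by rw [h, eichFn_e2_f1]⟩
  · obtain ⟨g, hg, h⟩ := exists_root5 K (x := ve K 0) (x' := vf K 0) (y := vf K 1)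
      (Or.inl ⟨Or.inl ⟨rfl, rfl⟩, Or.inr (Or.inl rfl)⟩) t
    exact ⟨g, hg, by rw [h, eichFn_e1_f2]⟩
  · obtain ⟨g, hg, h⟩ := exists_root5 K (x := ve K 1) (x' := vf K 1) (y := v0 K)
      (Or.inr ⟨Or.inl ⟨rfl, rfl⟩, Or.inr (Or.inr rfl)⟩) t
    exact ⟨g, hg, by rw [h, eichFn_e2_t]⟩
  · obtain ⟨g, hg, h⟩ := exists_root5 K (x := ve K 0) (x' := vf K 0) (y := v0 K)
      (Or.inl ⟨Or.inl ⟨rfl, rfl⟩, Or.inr (Or.inr rfl)⟩) t
    exact ⟨g, hg, by rw [h, eichFn_e1_t]⟩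
  · obtain ⟨g, hg, h⟩ := exists_root5 K (x := ve K 0) (x' := vf K 0) (y := ve K 1)
      (Or.inl ⟨Or.inl ⟨rfl, rfl⟩, Or.inl rfl⟩) t
    exact ⟨g, hg, by rw [h, eichFn_e1_e2]⟩

end genB2

/-! ### the packages -/

/-- [UNIT-B2] the model root elements are invertible (every field). -/
theorem unitB2 : PkgUnitB2.{u} := by
  intro K _ r t hr
  obtain ⟨g, -, h⟩ := EB2mat_eq_root5 K r hr t
  rw [← h]
  exact Units.isUnit _

theorem nroots_B2 : Cfsg.Lie.chevB2.nroots = 8 := rfl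

theorem lt_eight (r : Fin Cfsg.Lie.chevB2.nroots) : r.val < 8 := r.isLt

/-- the matrix of the root element `EB2 K r t`. -/
theorem coe_EB2 (K : Type u) [Field K] (r : Fin Cfsg.Lie.chevB2.nroots) (t : K) :
    ((EB2 K r t : Matrix.GeneralLinearGroup (Unit ⊕ (Fin 2 ⊕ Fin 2)) K) :
      Matrix (Unit ⊕ (Fin 2 ⊕ Fin 2)) (Unit ⊕ (Fin 2 ⊕ Fin 2)) K) = EB2mat K r.val t := by
  have hU : IsUnit (EB2mat K r.val t) := unitB2 K r.val t (lt_eight r)
  unfold EB2
  rw [dif_pos hU]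
  exact IsUnit.unit_spec hU

/-- [ISO-B2] the model root elements are isometries (every field). -/
theorem isoB2 : PkgIsoB2.{u} := by
  intro K _ r t hr v
  obtain ⟨g, -, h⟩ := EB2mat_eq_root5 K r hr t
  rw [← h]
  exact (mem_isometryGroup_iff _ _).1 g.2 v

/-- [RO-B2] `R ≤ O(Q)` (every field). -/
theorem roB2 : PkgRoB2.{u} := by
  intro K _
  unfold RB2
  rw [Subgroup.closure_le]
  rintro _ ⟨⟨r, t⟩, rfl⟩
  obtain ⟨g, -, h⟩ := EB2mat_eq_root5 K r.val (lt_eight r) t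
  have e : EB2 K r t = (g : Matrix.GeneralLinearGroup (Unit ⊕ (Fin 2 ⊕ Fin 2)) K) :=
    Units.ext (by rw [coe_EB2]; exact h.symm)
  show EB2 K r t ∈ Cfsg.isometryGroup K (Cfsg.quadFormOdd 2 K)
  rw [e]
  exact g.2

/-- **[GEN-B2]** `Ω(x₀² + x₁y₁ + x₂y₂) = R`, the group generated by the root elements
`EB2 K r t`, over every field with more than two elements (all characteristics). -/
theorem genB2 (K : Type u) [Field K] (hd : ∃ a : K, a ≠ 0 ∧ a ≠ 1) :
    Cfsg.Geo.omegaGL (Cfsg.quadFormOdd 2 K) = RB2 K := by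
  unfold Cfsg.Geo.omegaGL RB2
  rw [omega_odd5 K hd, MonoidHom.map_closure]
  congr 1
  ext x
  constructor
  · rintro ⟨g, hg, rfl⟩
    obtain ⟨r, hr, t, h⟩ := root5_eq_EB2mat K hg
    refine ⟨(⟨r, by rw [nroots_B2]; exact hr⟩, t), ?_⟩
    apply Units.ext
    rw [coe_EB2]
    exact h.symm
  · rintro ⟨⟨r, t⟩, rfl⟩
    obtain ⟨g, hg, h⟩ := EB2mat_eq_root5 K r.val (lt_eight r) t
    refine ⟨g, hg, Units.ext ?_⟩
    rw [coe_EB2]
    exact h

/-- the form of [GEN-B2] consumed by `Helper99.CHO.iso_of_model`. -/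
theorem genB2' (K : Type u) [Field K] (hd : ∃ a : K, a ≠ 0 ∧ a ≠ 1) :
    Cfsg.Geo.omegaGL (Cfsg.quadFormOdd 2 K) =
      Subgroup.closure (Set.range fun p : Fin Cfsg.Lie.chevB2.nroots × K => EB2 K p.1 p.2) :=
  genB2 K hd

/-- [IN-B2] the root elements lie in `Ω` when `K` has more than two elements. -/
theorem inB2 : PkgInB2.{u} := by
  intro K _ hd r t
  rw [genB2 K hd]
  exact Subgroup.subset_closure ⟨(r, t), rfl⟩

end Cfsg.Agent.Lib.Helper43.CHO
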